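import Cfsg.Agent.H498.LieFree

/-!
# The invariant Sylow `p`-subgroups of a group of Lie type in characteristic `p` meet trivially

`inter_sylow_eq_one` : `K` simple of Lie type in characteristic `p`, `B` an `r`-group of automorphisms, `r ∤ |K|`:
an element lying in every `B`-invariant Sylow `p`-subgroup is trivial.
-/

set_option autoImplicit false

namespace Cfsg.Agent.H21.InterSyl

open Cfsg Cfsg.Agent.H498

/-- Two `B`-invariant Sylow `p`-subgroups with trivial intersection. -/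
theorem exists_invariant_pair {K : Type*} [Group K] [Finite K] {p r : ℕ} [Fact p.Prime] [Fact r.Prime]
    (hK : SplitOpp.OppTrans p K) (hr : ¬ r ∣ Nat.card K) (B : Subgroup (MulAut K)) (hB : IsPGroup r B) :
    ∃ P Q : Sylow p K, (P : Subgroup K) ⊓ Q = ⊥ ∧ (∀ a ∈ B, ∀ g ∈ P, a g ∈ P) ∧
      ∀ a ∈ B, ∀ g ∈ Q, a g ∈ Q := by
  obtain ⟨P, Q, hPQ, -, htr⟩ := hK
  let Ω : SubMulAction (MulAut K) (Sylow p K × Sylow p K) :=
    { carrier := {t | (t.1 : Subgroup K) ⊓ (t.2 : Subgroup K) = ⊥}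
      smul_mem' := by
        intro c t ht
        show ((c • t.1 : Sylow p K) : Subgroup K) ⊓ ((c • t.2 : Sylow p K) : Subgroup K) = ⊥
        have ht' : (t.1 : Subgroup K) ⊓ (t.2 : Subgroup K) = ⊥ := ht
        rw [Sylow.pointwise_smul_def, Sylow.pointwise_smul_def]
        rw [← Subgroup.smul_inf, ht', Subgroup.smul_bot] }
  -- the orbit of `(P, Q)` under `K`
  have hcard : Nat.card Ω ∣ Nat.card K := by
    have h1 : (MulAction.orbit K (P, Q)) = {t : Sylow p K × Sylow p K | (t.1 : Subgroup K) ⊓ (t.2 : Subgroup K) = ⊥} := by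
      ext t
      constructor
      · rintro ⟨g, rfl⟩
        exact Ω.smul_mem (x := (P, Q)) (MulAut.conj g) hPQ
      · intro ht
        obtain ⟨g, hg1, hg2⟩ := htr t.1 t.2 ht
        exact ⟨g, Prod.ext hg1 hg2⟩
    have h2 : Nat.card Ω = Nat.card (MulAction.orbit K (P, Q)) := by
      rw [h1]
      rfl
    have h3 : Nat.card (MulAction.orbit K (P, Q)) = (MulAction.stabilizer K (P, Q)).index :=
      (MulAction.index_stabilizer K (P, Q)).symm
    rw [h2, h3]
    exact Subgroup.index_dvd_card _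
  have hΩ : ¬ r ∣ Nat.card Ω := fun h => hr (h.trans hcard)
  obtain ⟨ω, hω⟩ := hB.nonempty_fixed_point_of_prime_not_dvd_card Ω hΩ
  refine ⟨ω.1.1, ω.1.2, ω.2, ?_, ?_⟩
  · intro a ha g hg
    have h1 : (⟨a, ha⟩ : B) • ω = ω := hω ⟨a, ha⟩
    have h2 : a • ω.1.1 = ω.1.1 := congrArg (fun t : Ω => t.1.1) h1
    rw [← h2]
    exact Subgroup.smul_mem_pointwise_smul g a _ hg
  · intro a ha g hg
    have h1 : (⟨a, ha⟩ : B) • ω = ω := hω ⟨a, ha⟩
    have h2 : a • ω.1.2 = ω.1.2 := congrArg (fun t : Ω => t.1.2) h1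
    rw [← h2]
    exact Subgroup.smul_mem_pointwise_smul g a _ hg

/-- **The invariant Sylow `p`-subgroups meet trivially.** -/
theorem inter_sylow_eq_one {K : Type*} [Group K] [Finite K] [IsSimpleGroup K] {p r : ℕ} [hp : Fact p.Prime]
    [Fact r.Prime] (hK : Cfsg.IsLieTypeChar p K) (hr : ¬ r ∣ Nat.card K) (B : Subgroup (MulAut K))
    (hB : IsPGroup r B) {x : K} (hx : ∀ P : Sylow p K, (∀ a ∈ B, ∀ g ∈ P, a g ∈ P) → x ∈ P) : x = 1 := by
  obtain ⟨P, Q, h1, h2, h3⟩ := exists_invariant_pair (LieFree.oppTrans_of_lieChar hp.out hK) hr B hB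
  have h4 : x ∈ (P : Subgroup K) ⊓ Q := ⟨hx P h2, hx Q h3⟩
  rwa [h1, Subgroup.mem_bot] at h4

end Cfsg.Agent.H21.InterSyl
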