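import Cfsg.Agent.H912.MultChar
import Cfsg.Agent.H254.CopTriv
import Cfsg.Agent.H254.CopLin
import Cfsg.Agent.S0813
import Cfsg.Agent.S0814
import Cfsg.Agent.S0815
import Cfsg.Agent.S0817
import Cfsg.Agent.S2121
import Cfsg.Agent.S2122
import Cfsg.Agent.S2130
import Cfsg.Agent.ThreePrime.Main
import Cfsg.Agent.H996.AllSplit

/-!
# Even multipliers and coprime automorphisms

A simple group of Lie type in characteristic 2, not a Suzuki group, with a nontrivial `r`-group of automorphisms,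
`r ∤ |K|`, has a multiplier of odd order: the exceptions to "the multiplier in characteristic 2 is odd" have an outer
automorphism group of order `2^a 3^b`.
-/

set_option autoImplicit false

namespace Cfsg.Agent.H21.NoRTwo

open Cfsg Cfsg.Agent.H912.Bd Cfsg.Agent.H254

universe u v w

/-- all primes dividing `|Aut K|` divide `|K|` -/
def PA (K : Type*) [Group K] : Prop := ∀ s : ℕ, s.Prime → s ∣ Nat.card (MulAut K) → s ∣ Nat.card K

theorem PA.of_equiv {K : Type v} [Group K] {M : Type w} [Group M] (e : K ≃* M) {c : ℕ}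
    (hc : ∀ s : ℕ, s.Prime → s ∣ c → s = 2 ∨ s = 3) (h : Nat.card (MulAut M) = c * Nat.card M)
    (h2 : 2 ∣ Nat.card K) (h3 : 3 ∣ Nat.card K) : PA K := by
  intro s hs hd
  have h4 : Nat.card (MulAut K) = Nat.card (MulAut M) := Nat.card_congr (MulAut.congr e).toEquiv
  have h5 : Nat.card K = Nat.card M := Nat.card_congr e.toEquiv
  rw [h4, h, ← h5] at hd
  rcases hs.dvd_mul.1 hd with h6 | h6
  · rcases hc s hs h6 with rfl | rfl
    · exact h2
    · exact h3
  · exact h6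

theorem PA.of_out {K : Type v} [Group K] [Finite K] [IsSimpleGroup K] (hna : ¬ IsMulCommutative K)
    {M : Type w} [Group M] (e : K ≃* M) {c : ℕ}
    (hc : ∀ s : ℕ, s.Prime → s ∣ c → s = 2 ∨ s = 3) (h : Nat.card (Cfsg.Out M) = c)
    (h2 : 2 ∣ Nat.card K) (h3 : 3 ∣ Nat.card K) : PA K := by
  have hf : Finite M := Finite.of_equiv K e.toEquiv
  have hs : IsSimpleGroup M := e.symm.isSimpleGroup
  have hna' : ¬ IsMulCommutative M := by
    intro hcm
    apply hna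
    refine ⟨⟨fun a b => e.injective ?_⟩⟩
    rw [map_mul, map_mul]
    exact hcm.is_comm.comm _ _
  refine PA.of_equiv e hc ?_ h2 h3
  rw [← card_out hna', h]

theorem prime_dvd {c a b : ℕ} (hc : c = 2 ^ a * 3 ^ b) : ∀ s : ℕ, s.Prime → s ∣ c → s = 2 ∨ s = 3 := by
  intro s hs hd
  rw [hc] at hd
  rcases hs.dvd_mul.1 hd with h | h
  · exact Or.inl ((Nat.prime_dvd_prime_iff_eq hs Nat.prime_two).1 (hs.dvd_of_dvd_pow h))
  · exact Or.inr ((Nat.prime_dvd_prime_iff_eq hs Nat.prime_three).1 (hs.dvd_of_dvd_pow h))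

theorem pa_l {K : Type v} [Group K] (n f : ℕ) (hn : 2 ≤ n) (hf : 1 ≤ f) (h4 : n = 2 → 4 ≤ 2 ^ f)
    (h : IsL n (2 ^ f) K) (h2 : 2 ∣ Nat.card K) (h3 : 3 ∣ Nat.card K) (a b : ℕ)
    (hab : (if n = 2 then 1 else 2) * f * Nat.gcd n (2 ^ f - 1) = 2 ^ a * 3 ^ b) : PA K := by
  obtain ⟨F, _, _, hF, ⟨e⟩⟩ := h
  refine PA.of_equiv e (prime_dvd hab) ?_ h2 h3
  have h5 : Fact (Nat.Prime 2) := ⟨Nat.prime_two⟩
  rw [S0813.result 2 f hf hF n hn h4, H183.OutPSL.card_pgl_eq hn, hF]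
  ring

theorem pa_u {K : Type v} [Group K] (n : ℕ) (hn : 3 ≤ n) (h32 : n ≠ 3)
    (h : IsU n 2 K) (h2 : 2 ∣ Nat.card K) (h3 : 3 ∣ Nat.card K) (a b : ℕ)
    (hab : Nat.gcd n 3 * 2 = 2 ^ a * 3 ^ b) : PA K := by
  obtain ⟨F, _, _, hF, ⟨e⟩⟩ := h
  refine PA.of_equiv e (prime_dvd hab) ?_ h2 h3
  have h5 : Fact (Nat.Prime 2) := ⟨Nat.prime_two⟩
  rw [S0815.result 2 1 le_rfl (by norm_num) hF n hn (fun h => h32 h.1)]

/-- the exceptions have no coprime automorphisms -/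
theorem pa_of_excMult {K : Type v} [Group K] [Finite K] [IsSimpleGroup K] (hna : ¬ IsMulCommutative K)
    (h : ExcMult 2 K) (hsz : ¬ Lie.IsoSuzuki K) (h2 : 2 ∣ Nat.card K) (h3 : 3 ∣ Nat.card K) : PA K := by
  have hp : Fact (Nat.Prime 2) := ⟨Nat.prime_two⟩
  rcases h with ⟨-, h⟩ | ⟨h, -⟩
  swap
  · omega
  rcases h with h | h | h | h | h | h | h | h | h | h | h | h
  · exact pa_l 2 2 (by norm_num) (by norm_num) (by norm_num) h h2 h3 1 0 (by norm_num)
  · exact pa_l 3 1 (by norm_num) (by norm_num) (by norm_num) h h2 h3 1 0 (by norm_num)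
  · exact pa_l 3 2 (by norm_num) (by norm_num) (by norm_num) h h2 h3 2 1 (by norm_num)
  · exact pa_l 4 1 (by norm_num) (by norm_num) (by norm_num) h h2 h3 1 0 (by norm_num)
  · exact pa_u 4 (by norm_num) (by norm_num) h h2 h3 1 0 (by norm_num)
  · exact pa_u 6 (by norm_num) (by norm_num) h h2 h3 1 1 (by norm_num)
  · obtain ⟨F, _, _, hF, ⟨e⟩⟩ := h
    refine PA.of_equiv e (c := 1) (prime_dvd (a := 0) (b := 0) (by norm_num)) ?_ h2 h3
    rw [S0814.result 2 1 le_rfl hF 3 (by norm_num) (by norm_num)]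
    norm_num
  · obtain ⟨F, _, _, hF, ⟨e⟩⟩ := h
    refine PA.of_equiv e (c := 6) (prime_dvd (a := 1) (b := 1) (by norm_num)) ?_ h2 h3
    rw [S0817.result 2 1 le_rfl hF 4 (by norm_num)]
    norm_num
  · obtain ⟨F, _, _, hF, ⟨e⟩⟩ := h
    have : CharP F 2 := charP_of_card_eq_prime_pow (f := 2) hF
    refine PA.of_out hna e (c := 2) (prime_dvd (a := 1) (b := 0) (by norm_num)) ?_ h2 h3
    rw [S2121.result 2 2 hF (by norm_num)]
    norm_num
  · obtain ⟨F, _, _, hF, ⟨e⟩⟩ := h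
    have : CharP F 2 := charP_of_card_eq_prime_pow (f := 1) hF
    refine PA.of_out hna e (c := 2) (prime_dvd (a := 1) (b := 0) (by norm_num)) ?_ h2 h3
    rw [S2122.result 2 1 hF]
    norm_num
  · obtain ⟨F, _, _, hF, ⟨e⟩⟩ := h
    have : CharP F 2 := charP_of_card_eq_prime_pow (f := 2) hF
    refine PA.of_out hna e (c := 6) (prime_dvd (a := 1) (b := 1) (by norm_num)) ?_ h2 h3
    have h5 := S2130.result (K := F) 2 1 hF le_rfl
    rw [pow_one] at h5
    rw [h5]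
    norm_num
  · exfalso
    obtain ⟨F, _, _, hF, ⟨e⟩⟩ := h
    exact hsz ⟨F, inferInstance, inferInstance, 1, le_rfl, hF, ⟨e⟩⟩

/-- a group with a split (B,N)-pair is not abelian of order divisible by `p` -/
theorem dvd_card_of_hasSplit {K : Type u} [Group K] [Finite K] {p : ℕ} [hp : Fact p.Prime]
    (h : FixBN.HasSplit p K) : p ∣ Nat.card K := by
  obtain ⟨P, U, ⟨s, hs⟩, h⟩ := h
  obtain ⟨V, hV⟩ := h.node s hs
  obtain ⟨u, hu, huV⟩ := hV.ne
  obtain ⟨k, hk⟩ := h.isP ⟨u, hu⟩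
  have h1 : u ^ p ^ k = 1 := by simpa using congrArg Subtype.val hk
  obtain ⟨j, hj, hj2⟩ := (Nat.dvd_prime_pow hp.1).1 (orderOf_dvd_of_pow_eq_one h1)
  have h3 : p ∣ orderOf u := by
    rw [hj2]
    apply dvd_pow_self
    rintro rfl
    rw [pow_zero, orderOf_eq_one_iff] at hj2
    exact huV (by rw [hj2]; exact one_mem _)
  exact h3.trans (orderOf_dvd_natCard u)

theorem not_comm_of_split {p : ℕ} {K : Type u} [Group K] (h : FixBN.HasSplit p K) : ¬ IsMulCommutative K := by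
  obtain ⟨P, U, ⟨s, hs⟩, -⟩ := h
  intro hc
  have hcm : ∀ a b : K, a * b = b * a := hc.is_comm.comm
  apply P.conj_ne s hs
  have h2 := P.sq_mem s hs
  ext b
  constructor
  · rintro ⟨x, hx, rfl⟩
    have h3 : s * x * s = x * (s * s) := by rw [hcm s x, mul_assoc]
    change s * x * s ∈ P.B
    rw [h3]
    exact mul_mem hx h2
  · intro hb
    refine ⟨b * (s * s)⁻¹, mul_mem hb (inv_mem h2), ?_⟩
    change s * (b * (s * s)⁻¹) * s = b
    rw [hcm s, mul_assoc, mul_assoc, inv_mul_cancel, mul_one]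

/-- **The multiplier is odd in the presence of coprime automorphisms.** -/
theorem noR_two {K : Type v} [Group K] [Finite K] [IsSimpleGroup K] (hK : Cfsg.IsLieTypeChar 2 K)
    (hsz : ¬ Lie.IsoSuzuki K) {r : ℕ} [hr' : Fact r.Prime] (hr : ¬ r ∣ Nat.card K) (A : Subgroup (MulAut K))
    (hA : IsPGroup r A) (hne : A ≠ ⊥) : NoR.{u} 2 K := by
  have hp : Fact (Nat.Prime 2) := ⟨Nat.prime_two⟩
  rcases noR_of_lieTypeChar.{u} Nat.prime_two hK with hE | h
  swap
  · exact h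
  exfalso
  have hs := H996.AllSplit.hasSplit_of_lie Nat.prime_two hK
  have hna := not_comm_of_split hs
  have h2 : 2 ∣ Nat.card K := dvd_card_of_hasSplit hs
  have h3 : 3 ∣ Nat.card K := by
    by_contra h3
    exact hsz (ThreePrime.Main.isoSuzuki' hna h3)
  apply hne
  refine CopTriv.of_card (pa_of_excMult hna hE hsz h2 h3) A ?_
  obtain ⟨n, hn⟩ := IsPGroup.iff_card.1 hA
  rw [hn]
  exact Nat.Coprime.pow_left n ((Nat.Prime.coprime_iff_not_dvd hr'.out).2 hr)

end Cfsg.Agent.H21.NoRTwo
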