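import Cfsg.Agent.H25.S30Quad
import Cfsg.Agent.H25.UFDef
import Cfsg.Agent.H21.NoRTwo
import Cfsg.Agent.H21.InterSyl
import Cfsg.Agent.H400.LieLocal
import Cfsg.Agent.H451.PowellE
import Cfsg.Agent.S1157
import Cfsg.Agent.S2111
import Cfsg.Agent.S2112
import Cfsg.Agent.S2113

/-!
# Quadratic elements of the perfect central extensions of the groups of Lie type

`qd_lie`: a quadratic element `y` of a perfect linear group `L` over `ZMod p`, `p > 3`, with `L / Z ≅ K` of Lie type,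
whose image in `K` lies in all the Sylow `p`-subgroups invariant under a coprime `r`-group of automorphisms: the image is
trivial.
-/

set_option autoImplicit false

namespace Cfsg.Agent.H21.QDLie

open Cfsg Subgroup
open Cfsg.Agent.BpLieP.Big (LocChar)

/-- An element centralising the `p'`-subgroups which it normalises does not normalise a nontrivial `l`-subgroup. -/
theorem eq_one_of_locChar {K : Type*} [Group K] [Finite K] {p l : ℕ} [hp : Fact p.Prime] [hl : Fact l.Prime]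
    (hpl : l ≠ p) (hloc : LocChar l K) {x : K} (hxp : x ^ p = 1)
    (hcomm : ∀ Y : Subgroup K, (Nat.card Y).Coprime p → (∀ y ∈ Y, x * y * x⁻¹ ∈ Y) → ∀ y ∈ Y, x * y = y * x)
    {E : Subgroup K} (hE : IsPGroup l E) (hE1 : E ≠ ⊥) (hn : ∀ e ∈ E, x * e * x⁻¹ ∈ E) : x = 1 := by
  have hcop : ∀ Y : Subgroup K, IsPGroup l Y → (Nat.card Y).Coprime p := by
    intro Y hY
    obtain ⟨n, hn⟩ := IsPGroup.iff_card.1 hY
    rw [hn]
    exact Nat.Coprime.pow_left n ((Nat.coprime_primes hl.out hp.out).2 hpl)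
  have h1 := hcomm E (hcop E hE) hn
  have hxN : x ∈ normalizer (E : Set K) := by
    refine centralizer_le_normalizer _ ?_
    rw [mem_centralizer_iff]
    intro e he
    exact (h1 e he).symm
  have hc := hloc E hE hE1
  have hOn : (pCore l ↥(normalizer (E : Set K))).Normal := Lib.Cores.pCore_normal l
  have hOp : IsPGroup l ↥(pCore l ↥(normalizer (E : Set K))) := Lib.Cores.pCore_isPGroup l
  have h2 := hcomm ((pCore l ↥(normalizer (E : Set K))).map (normalizer (E : Set K)).subtype)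
    (hcop _ (hOp.map _)) (by
      rintro _ ⟨z, hz, rfl⟩
      exact ⟨⟨x, hxN⟩ * z * ⟨x, hxN⟩⁻¹, hOn.conj_mem z hz _, rfl⟩)
  have h3 : (⟨x, hxN⟩ : ↥(normalizer (E : Set K))) ∈
      centralizer (pCore l ↥(normalizer (E : Set K)) : Set ↥(normalizer (E : Set K))) := by
    rw [mem_centralizer_iff]
    intro z hz
    exact Subtype.ext (h2 z ⟨z, hz, rfl⟩).symm
  obtain ⟨k, hk⟩ := hOp ⟨_, hc h3⟩
  have hk' : x ^ l ^ k = 1 := congrArg Subtype.val (congrArg Subtype.val hk)
  have h4 : orderOf x = 1 := Nat.eq_one_of_dvd_coprimes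
    (((Nat.coprime_primes hl.out hp.out).2 hpl).pow_left k)
    (orderOf_dvd_of_pow_eq_one hk') (orderOf_dvd_of_pow_eq_one hxp)
  exact orderOf_eq_one_iff.1 h4

/-- the powers of an element -/
theorem isPGroup_zpowers {K : Type*} [Group K] {l : ℕ} {u : K} {k : ℕ} (hu : u ^ l ^ k = 1) :
    IsPGroup l (zpowers u) := by
  rintro ⟨_, i, rfl⟩
  refine ⟨k, Subtype.ext ?_⟩
  change (u ^ i) ^ l ^ k = 1
  rw [← zpow_natCast, ← _root_.zpow_mul, mul_comm, _root_.zpow_mul, zpow_natCast, hu, _root_.one_zpow]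

theorem eq_one_of_locChar_elt {K : Type*} [Group K] [Finite K] {p l : ℕ} [hp : Fact p.Prime] [hl : Fact l.Prime]
    (hpl : l ≠ p) (hloc : LocChar l K) {x : K} (hxp : x ^ p = 1)
    (hcomm : ∀ Y : Subgroup K, (Nat.card Y).Coprime p → (∀ y ∈ Y, x * y * x⁻¹ ∈ Y) → ∀ y ∈ Y, x * y = y * x)
    {u : K} {k : ℕ} (hu : u ^ l ^ k = 1) (hu1 : u ≠ 1) (hn : u * x = x * u) : x = 1 := by
  refine eq_one_of_locChar hpl hloc hxp hcomm (isPGroup_zpowers hu) (fun h => hu1 (zpowers_eq_bot.1 h)) ?_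
  rintro _ ⟨i, rfl⟩
  refine ⟨i, ?_⟩
  have h1 : Commute x (u ^ i) := Commute.zpow_right hn.symm i
  change u ^ i = x * u ^ i * x⁻¹
  rw [h1.eq, mul_inv_cancel_right]

/-- an element of all the Sylow `p`-subgroups of a nonabelian simple group is trivial -/
theorem eq_one_of_mem_all {K : Type*} [Group K] [Finite K] [IsSimpleGroup K] (hna : ∃ a b : K, a * b ≠ b * a)
    {p : ℕ} [hp : Fact p.Prime] {x : K} (hx : ∀ Q : Sylow p K, x ∈ Q) : x = 1 := by
  obtain ⟨Q⟩ : Nonempty (Sylow p K) := inferInstance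
  have h1 : normalClosure ({x} : Set K) ≤ Q := by
    rw [normalClosure, closure_le]
    intro z hz
    rw [Group.mem_conjugatesOfSet_iff] at hz
    obtain ⟨a, ha, hc⟩ := hz
    rw [Set.mem_singleton_iff] at ha
    subst ha
    rw [isConj_iff] at hc
    obtain ⟨g, rfl⟩ := hc
    have h2 := hx (g⁻¹ • Q)
    have h3 : a ∈ ((g⁻¹ • Q : Sylow p K) : Subgroup K) := h2
    rw [Sylow.coe_subgroup_smul, Subgroup.mem_pointwise_smul_iff_inv_smul_mem] at h3
    have h4 : (MulAut.conj g⁻¹)⁻¹ • a = g * a * g⁻¹ := by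
      rw [← map_inv, MulAut.smul_def, MulAut.conj_apply, inv_inv]
    rwa [h4] at h3
  rcases (normalClosure_normal (s := ({x} : Set K))).eq_bot_or_eq_top with h2 | h2
  · have h3 : x ∈ normalClosure ({x} : Set K) := subset_normalClosure rfl
    rwa [h2, mem_bot] at h3
  · exfalso
    rw [h2, top_le_iff] at h1
    have hKp : IsPGroup p K := by
      intro z
      obtain ⟨k, hk⟩ := Q.isPGroup' ⟨z, by rw [h1]; trivial⟩
      exact ⟨k, congrArg Subtype.val hk⟩
    have hnil : Group.IsNilpotent K := hKp.isNilpotent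
    have hsol : Group.IsSolvable K := inferInstance
    have hnt : Nontrivial K := inferInstance
    have hlt := hsol.commutator_lt_top_of_nontrivial
    have hnorm : (commutator K).Normal := inferInstance
    rcases hnorm.eq_bot_or_eq_top with h3 | h3
    · obtain ⟨a, b, hab⟩ := hna
      apply hab
      have h4 : a * b * a⁻¹ * b⁻¹ ∈ commutator K := Subgroup.commutator_mem_commutator (mem_top a) (mem_top b)
      rw [h3, mem_bot, mul_inv_eq_one, mul_inv_eq_iff_eq_mul] at h4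
      exact h4
    · exact hlt.ne h3

/-- a subgroup of `Aut K` fixing `u`, `u` isolated: `u` centralises the intersection of the invariant Sylows -/
theorem comm_of_iso {K : Type*} [Group K] [Finite K] {p l r : ℕ} [hp : Fact p.Prime] [hr' : Fact r.Prime]
    (hp2 : p ≠ 2) (hpl : p ≠ l) (hr : ¬ r ∣ Nat.card K) (B : Subgroup (MulAut K)) (hB : IsPGroup r B) {u : K}
    (huB : ∀ a ∈ B, a u = u) (hu : H25.UFDef.Iso l u) {x : K}
    (hx : ∀ Q : Sylow p K, (∀ β ∈ B, ∀ k ∈ Q, β k ∈ Q) → x ∈ Q) : u * x = x * u := by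
  obtain ⟨P0, hP0⟩ : ∃ P0 : Subgroup K, P0 = ⨅ Q : {Q : Sylow p K // ∀ β ∈ B, ∀ k ∈ Q, β k ∈ Q}, (Q.1 : Subgroup K) :=
    ⟨_, rfl⟩
  obtain ⟨S, hS⟩ := Lib.PGroupCoprimeAction.exists_sylow_smul_eq (A := B) (H := K) hB hr p
  have hSi : ∀ β ∈ B, ∀ k ∈ S, β k ∈ S := by
    intro β hβ k hk
    have h1 := hS ⟨β, hβ⟩
    have h2 : ∀ T : Sylow p K, T = S → β k ∈ T → β k ∈ S := by
      rintro T rfl h
      exact h
    exact h2 _ h1 ⟨k, hk, rfl⟩
  have hP0S : P0 ≤ S := by
    rw [hP0]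
    exact iInf_le (fun Q : {Q : Sylow p K // ∀ β ∈ B, ∀ k ∈ Q, β k ∈ Q} => (Q.1 : Subgroup K)) ⟨S, hSi⟩
  have hP0p : IsPGroup p P0 := S.isPGroup'.to_le hP0S
  have hxP0 : x ∈ P0 := by
    rw [hP0, mem_iInf]
    rintro ⟨Q, hQ⟩
    exact hx Q hQ
  refine hu p hp.out hp2 hpl P0 hP0p ?_ x hxP0
  intro g hg
  rw [hP0, mem_iInf] at hg ⊢
  rintro ⟨Q, hQ⟩
  have hQ' : ∀ β ∈ B, ∀ k ∈ (u⁻¹ • Q : Sylow p K), β k ∈ (u⁻¹ • Q : Sylow p K) := by
    intro β hβ k hk
    have h3 : k ∈ ((u⁻¹ • Q : Sylow p K) : Subgroup K) := hk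
    have e : ∀ z : K, (MulAut.conj u⁻¹)⁻¹ • z = u * z * u⁻¹ := by
      intro z
      rw [← map_inv, MulAut.smul_def, MulAut.conj_apply, inv_inv]
    rw [Sylow.coe_subgroup_smul, Subgroup.mem_pointwise_smul_iff_inv_smul_mem, e] at h3
    change β k ∈ ((u⁻¹ • Q : Sylow p K) : Subgroup K)
    rw [Sylow.coe_subgroup_smul, Subgroup.mem_pointwise_smul_iff_inv_smul_mem, e]
    have h4 := hQ β hβ _ h3
    rwa [map_mul, map_mul, map_inv, huB β hβ] at h4
  have h5 := hg ⟨u⁻¹ • Q, hQ'⟩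
  change g ∈ ((u⁻¹ • Q : Sylow p K) : Subgroup K) at h5
  rw [Sylow.coe_subgroup_smul, Subgroup.mem_pointwise_smul_iff_inv_smul_mem, ← map_inv, MulAut.smul_def,
    MulAut.conj_apply, inv_inv] at h5
  exact h5

/-- the Sylow 2-subgroups of the Ree groups are abelian -/
theorem comm_of_ree {K : Type*} [Group K] [Finite K] (hree : Lie.IsoRee K) (T : Subgroup K) (hT : IsPGroup 2 T) :
    ∀ x ∈ T, ∀ y ∈ T, x * y = y * x := by
  obtain ⟨F, _, _, m, hm, hF, ⟨e⟩⟩ := hree
  have h2 : Fact (Nat.Prime 2) := ⟨Nat.prime_two⟩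
  have hfin : Finite ↥(Cfsg.Lie.twistedG2 F (3 ^ m)) := Finite.of_equiv K e.toEquiv
  obtain ⟨S, hS⟩ := (hT.map e.toMonoidHom).exists_le_sylow
  obtain ⟨hc, -⟩ := S1157.result hm hF S
  intro x hx y hy
  have h3 : e x ∈ S := hS ⟨x, hx, rfl⟩
  have h4 : e y ∈ centralizer ((S : Subgroup ↥(Cfsg.Lie.twistedG2 F (3 ^ m))) : Set ↥(Cfsg.Lie.twistedG2 F (3 ^ m))) := by
    rw [hc]
    exact hS ⟨y, hy, rfl⟩
  rw [mem_centralizer_iff] at h4
  apply e.injective
  rw [map_mul, map_mul]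
  exact h4 _ h3

/-- the multiplier of the Ree groups -/
theorem injective_of_ree {L K : Type*} [Group L] [Group K] {π : L →* K} (hree : Lie.IsoRee K)
    (hperf : commutator L = ⊤) (hs : Function.Surjective π) (hc : π.ker ≤ center L) : Function.Injective π := by
  obtain ⟨F, _, _, m, hm, hF, ⟨e⟩⟩ := hree
  have h1 : (e.toMonoidHom.comp π).ker = π.ker := by
    ext x
    rw [MonoidHom.mem_ker, MonoidHom.mem_ker, MonoidHom.comp_apply]
    exact map_eq_one_iff _ e.injective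
  have h2 := H264.CoverOver.injective_of_trivial (S2113.result hm hF) hperf (e.toMonoidHom.comp π)
    (e.surjective.comp hs) (by rw [h1]; exact hc)
  intro a b hab
  apply h2
  rw [MonoidHom.comp_apply, MonoidHom.comp_apply, hab]

/-- the multiplier of the Suzuki groups -/
theorem not_three_dvd_of_suzuki {L K : Type*} [Group L] [Group K] {π : L →* K} (hsz : Lie.IsoSuzuki K)
    (hperf : commutator L = ⊤) (hs : Function.Surjective π) (hc : π.ker ≤ center L) :
    ¬ 3 ∣ Nat.card π.ker := by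
  obtain ⟨F, _, _, m, hm, hF, ⟨e⟩⟩ := hsz
  have h1 : (e.toMonoidHom.comp π).ker = π.ker := by
    ext x
    rw [MonoidHom.mem_ker, MonoidHom.mem_ker, MonoidHom.comp_apply]
    exact map_eq_one_iff _ e.injective
  have hs' := e.surjective.comp hs
  have hc' : (e.toMonoidHom.comp π).ker ≤ center L := by rw [h1]; exact hc
  rw [← h1]
  rcases Nat.lt_or_ge m 2 with h2 | h2
  · obtain rfl : m = 1 := by omega
    have h3 := H264.CoverOver.card_ker_dvd (S2112.result (F := F) (by rw [hF]; norm_num)) hperf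
      (e.toMonoidHom.comp π) hs' hc'
    have h4 : Nat.card (Multiplicative (ZMod 2 × ZMod 2)) = 4 := by
      rw [Nat.card_congr (Multiplicative.toAdd (α := ZMod 2 × ZMod 2)), Nat.card_prod, Nat.card_zmod]
    rw [h4] at h3
    intro h5
    have := h5.trans h3
    omega
  · have h3 := H264.CoverOver.card_ker_dvd (S2111.result h2 hF) hperf (e.toMonoidHom.comp π) hs' hc'
    have h4 : Nat.card (Multiplicative (ZMod 1)) = 1 := by
      rw [Nat.card_congr (Multiplicative.toAdd (α := ZMod 1)), Nat.card_zmod]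
    rw [h4] at h3
    intro h5
    have := h5.trans h3
    omega

universe u

/-- **The groups of Lie type.** -/
theorem qd_lie {p l r : ℕ} [hp : Fact p.Prime] [hl : Fact l.Prime] [hr' : Fact r.Prime] (hp3 : 3 < p)
    {L K : Type} [Group L] [Finite L] [Group K] [Finite K] [IsSimpleGroup K] (hna : ∃ a b : K, a * b ≠ b * a)
    {V : Type} [AddCommGroup V] [Module (ZMod p) V] [Finite V] {ρ : L →* Module.End (ZMod p) V} {π : L →* K} {y : L}
    (h : H25.S30.QD ρ π y) (hK : Cfsg.IsLieTypeChar l K)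
    (huf : l ≠ 2 → ¬ (l = 3 ∧ Lie.IsoRee K) → H25.UFDef.UF l K) (hr : ¬ r ∣ Nat.card K)
    (B : Subgroup (MulAut K)) (hB : IsPGroup r B)
    (hx : ∀ Q : Sylow p K, (∀ β ∈ B, ∀ k ∈ Q, β k ∈ Q) → π y ∈ Q) : π y = 1 := by
  by_contra hne
  have hxp := h.pow_eq
  have hcomm : ∀ Y : Subgroup K, (Nat.card Y).Coprime p → (∀ z ∈ Y, π y * z * (π y)⁻¹ ∈ Y) →
      ∀ z ∈ Y, π y * z = z * π y := fun Y hY hn => h.comm hp3 hY hn
  by_cases hlp : l = p
  · subst hlp
    exact hne (InterSyl.inter_sylow_eq_one hK hr B hB hx)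
  by_cases hB1 : B = ⊥
  · refine hne (eq_one_of_mem_all hna (fun Q => hx Q ?_))
    intro β hβ k hk
    rw [hB1, mem_bot] at hβ
    rw [hβ]
    exact hk
  by_cases hl2 : l = 2
  · subst hl2
    by_cases hsz : Lie.IsoSuzuki K
    · have h1 := h.three_dvd (by omega) hne
      have h2 : Nat.card L = Nat.card K * Nat.card π.ker := H264.CoverOver.card_eq_of_surj h.surj
      rw [h2] at h1
      rcases Nat.prime_three.dvd_mul.1 h1 with h3 | h3
      · exact H451.PowellE.not_three_dvd_suzuki hsz h3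
      · exact not_three_dvd_of_suzuki hsz h.perf h.surj h.cen h3
    · have hloc := H400.LieLocal.local_char_of_lie hK (fun h1 => hsz h1.2)
      obtain ⟨j, hj1, hj2, hj3⟩ := h.exists_involution (by omega) hne
      have hodd := NoRTwo.noR_two.{0} hK hsz hr B hB hB1 L h.perf π h.surj h.cen
      have hj4 : π j ≠ 1 := by
        intro h4
        have h5 : orderOf j ∣ Nat.card π.ker := by
          have := orderOf_dvd_natCard (⟨j, h4⟩ : π.ker)
          rwa [← Subgroup.orderOf_coe] at this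
        have h6 : orderOf j ∣ 2 := orderOf_dvd_of_pow_eq_one (by rw [pow_two, hj2])
        exact hj1 (orderOf_eq_one_iff.1 (Nat.eq_one_of_dvd_coprimes hodd h5 h6))
      refine hne (eq_one_of_locChar_elt hlp hloc hxp hcomm (u := π j) (k := 1) ?_ hj4 ?_)
      · rw [pow_one, pow_two, ← map_mul, hj2, map_one]
      · rw [← map_mul, hj3, map_mul]
  · by_cases hree : l = 3 ∧ Lie.IsoRee K
    · have hinj := injective_of_ree hree.2 h.perf h.surj h.cen
      refine h.sylow_two hp3 hne (fun T hT a ha b hb => hinj ?_)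
      rw [map_mul, map_mul]
      exact comm_of_ree hree.2 (T.map π) (hT.map π) _ ⟨a, ha, rfl⟩ _ ⟨b, hb, rfl⟩
    · have hcop : (Nat.card B).Coprime (Nat.card K) := by
        obtain ⟨n, hn⟩ := IsPGroup.iff_card.1 hB
        rw [hn]
        exact Nat.Coprime.pow_left n ((Nat.Prime.coprime_iff_not_dvd hr'.out).2 hr)
      obtain ⟨u, hu1, ⟨k, hk⟩, huB, hiso⟩ := huf hl2 hree B hcop
      have hloc := H400.LieLocal.local_char_of_lie hK (fun h1 => hl2 h1.1)
      exact hne (eq_one_of_locChar_elt hlp hloc hxp hcomm hk hu1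
        (comm_of_iso (by omega) (Ne.symm hlp) hr B hB huB hiso hx))

end Cfsg.Agent.H21.QDLie
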