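import Mathlib
import Cfsg.Agent.S3375
import Cfsg.Agent.TwoFusion.MaxClass
import Cfsg.Agent.Transfer.PGroupNormal
import Cfsg.Prelude.Def_CaseTheorems

/-!
# 2-groups with an automorphism of order two whose fixed points form a cyclic group of order four

`Cfg T τ v e` : `τ² = 1`, the fixed points of `τ` are the powers of `v` (of order four), `z = v²` is central,
`E = {1, z, e, ez}` is a normal four-group with `τ(e) = ez`.

`struct` : either `T = E ∪ vE` or there is an abelian subgroup `T₀ = ⟨c⟩ × ⟨e⟩` of index two, inverted by `τ` modulo `E`.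
-/

set_option autoImplicit false

namespace Cfsg.Agent.H21.FixFour

open scoped commutatorElement

variable {T : Type*} [Group T]

/-- the configuration -/
structure Cf (τ : MulAut T) (v e : T) : Prop where
  ττ : ∀ x, τ (τ x) = x
  fixv : τ v = v
  v4 : v * v * (v * v) = 1
  v2 : v * v ≠ 1
  fix : ∀ x, τ x = x → x = 1 ∨ x = v * v ∨ x = v ∨ x = v * (v * v)
  ee : e * e = 1
  te : τ e = e * (v * v)
  zc : ∀ x, x * (v * v) = (v * v) * x
  en : ∀ x, x * e * x⁻¹ = e ∨ x * e * x⁻¹ = e * (v * v)

namespace Cf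

variable {τ : MulAut T} {v e : T} (C : Cf τ v e)

include C

theorem e1 : e ≠ 1 := by
  intro h
  have h1 := C.te
  rw [h, map_one, one_mul] at h1
  exact C.v2 h1.symm

theorem ez : e ≠ v * v := by
  intro h
  have h1 := C.te
  rw [h, map_mul, C.fixv, C.v4] at h1
  exact C.v2 h1

theorem ei : e⁻¹ = e := inv_eq_of_mul_eq_one_left C.ee

theorem zi : (v * v)⁻¹ = v * v := inv_eq_of_mul_eq_one_left C.v4

theorem tz : τ (v * v) = v * v := by rw [map_mul, C.fixv]

/-- the four-group `E` -/
def E : Subgroup T where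
  carrier := {x | x = 1 ∨ x = v * v ∨ x = e ∨ x = e * (v * v)}
  one_mem' := Or.inl rfl
  mul_mem' := by
    have h1 := C.zc e
    have h2 := C.ee
    have h3 := C.v4
    have h4 : (v * v) * (e * (v * v)) = e := by rw [h1, ← mul_assoc, h3, one_mul]
    have h5 : e * (e * (v * v)) = v * v := by rw [← mul_assoc, h2, one_mul]
    have h6 : (e * (v * v)) * (v * v) = e := by rw [mul_assoc, h3, mul_one]
    have h7 : (e * (v * v)) * e = v * v := by rw [h1, mul_assoc, h2, mul_one]
    have h8 : (e * (v * v)) * (e * (v * v)) = 1 := by rw [← mul_assoc, h7, h3]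
    rintro a b (rfl | rfl | rfl | rfl) (rfl | rfl | rfl | rfl)
    · exact Or.inl (one_mul _)
    · exact Or.inr (Or.inl (one_mul _))
    · exact Or.inr (Or.inr (Or.inl (one_mul _)))
    · exact Or.inr (Or.inr (Or.inr (one_mul _)))
    · exact Or.inr (Or.inl (mul_one _))
    · exact Or.inl h3
    · exact Or.inr (Or.inr (Or.inr h1.symm))
    · exact Or.inr (Or.inr (Or.inl h4))
    · exact Or.inr (Or.inr (Or.inl (mul_one _)))
    · exact Or.inr (Or.inr (Or.inr rfl))
    · exact Or.inl h2
    · exact Or.inr (Or.inl h5)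
    · exact Or.inr (Or.inr (Or.inr (mul_one _)))
    · exact Or.inr (Or.inr (Or.inl h6))
    · exact Or.inr (Or.inl h7)
    · exact Or.inl h8
  inv_mem' := by
    have h1 := C.zc e
    have h2 := C.ei
    have h3 := C.zi
    rintro a (rfl | rfl | rfl | rfl)
    · exact Or.inl inv_one
    · exact Or.inr (Or.inl h3)
    · exact Or.inr (Or.inr (Or.inl h2))
    · refine Or.inr (Or.inr (Or.inr ?_))
      rw [mul_inv_rev, h2, h3, h1]

theorem mem_E {x : T} : x ∈ C.E ↔ x = 1 ∨ x = v * v ∨ x = e ∨ x = e * (v * v) := Iff.rfl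

theorem E_normal : C.E.Normal := by
  constructor
  intro x hx g
  have hz : g * (v * v) * g⁻¹ = v * v := by rw [C.zc g]; group
  rcases hx with rfl | rfl | rfl | rfl
  · left; group
  · right; left; exact hz
  · rcases C.en g with h | h
    · right; right; left; exact h
    · right; right; right; exact h
  · have h1 : g * (e * (v * v)) * g⁻¹ = (g * e * g⁻¹) * (g * (v * v) * g⁻¹) := by group
    rw [h1, hz]
    rcases C.en g with h | h
    · right; right; right; rw [h]
    · right; right; left; rw [h, mul_assoc, C.v4, mul_one]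

theorem map_E : C.E.map τ.toMonoidHom = C.E := by
  have h1 : ∀ x ∈ C.E, τ x ∈ C.E := by
    rintro x (rfl | rfl | rfl | rfl)
    · left; exact map_one τ
    · right; left; exact C.tz
    · right; right; right; exact C.te
    · right; right; left; rw [map_mul, C.te, C.tz, mul_assoc, C.v4, mul_one]
  apply le_antisymm
  · rintro _ ⟨x, hx, rfl⟩
    exact h1 x hx
  · intro x hx
    exact ⟨τ x, h1 x hx, C.ττ x⟩

/-- fixed points modulo `E` -/
theorem fix_mod {x : T} (hx : x⁻¹ * τ x ∈ C.E) : x ∈ C.E ∨ v⁻¹ * x ∈ C.E := by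
  -- the difference is fixed
  have h1 : τ (x⁻¹ * τ x) = (x⁻¹ * τ x)⁻¹ := by
    rw [map_mul, map_inv, C.ττ]; group
  have h2 : (x⁻¹ * τ x)⁻¹ = x⁻¹ * τ x := by
    rcases hx with h | h | h | h <;> rw [h]
    · exact inv_one
    · exact C.zi
    · exact C.ei
    · rw [mul_inv_rev, C.ei, C.zi, C.zc]
  rw [h2] at h1
  have key : ∀ y : T, τ y = y → y ∈ C.E ∨ v⁻¹ * y ∈ C.E := by
    intro y hy
    rcases C.fix y hy with h | h | h | h
    · left; left; exact h
    · left; right; left; exact h
    · right; left; rw [h]; group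
    · right; right; left; rw [h]; group
  rcases hx with h | h | h | h
  · exact key x (inv_mul_eq_one.mp h).symm
  · have h3 : τ x = x * (v * v) := inv_mul_eq_iff_eq_mul.mp h
    have h4 : τ (x * e) = x * e := by
      rw [map_mul, h3, C.te]
      calc x * (v * v) * (e * (v * v)) = x * ((v * v) * (e * (v * v))) := by group
        _ = x * (e * ((v * v) * (v * v))) := by rw [← mul_assoc (v * v) e (v * v), ← C.zc e, mul_assoc e]
        _ = x * e := by rw [C.v4, mul_one]
    have he : e ∈ C.E := Or.inr (Or.inr (Or.inl rfl))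
    rcases key _ h4 with h5 | h5
    · left
      have := C.E.mul_mem h5 he
      rwa [mul_assoc, C.ee, mul_one] at this
    · right
      have := C.E.mul_mem h5 he
      rwa [mul_assoc, mul_assoc, C.ee, mul_one] at this
  · exfalso
    rw [h, C.te] at h1
    exact C.v2 (mul_eq_left.mp h1)
  · exfalso
    rw [h, map_mul, C.te, C.tz, mul_assoc, C.v4, mul_one] at h1
    exact C.v2 (mul_eq_left.mp h1.symm)

theorem v_notMem : v ∉ C.E := by
  rintro (h | h | h | h)
  · apply C.v2; rw [h, one_mul]
  · apply C.v2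
    have h1 := mul_eq_left.mp h.symm
    rw [h1, one_mul]
  · have h1 := C.te
    rw [← h, C.fixv] at h1
    exact C.v2 (mul_eq_left.mp h1.symm)
  · have h1 := C.te
    have h2 : τ (e * (v * v)) = e * (v * v) := by rw [← h, C.fixv]
    rw [map_mul, C.te, C.tz, mul_assoc, C.v4, mul_one] at h2
    exact C.v2 (mul_eq_left.mp h2.symm)

end Cf

/-- the element `u⁻¹ τ(u)` -/
def cc (τ : MulAut T) (u : T) : T := u⁻¹ * τ u

/-- the structure of `T` when `T ≠ E ∪ vE` -/
structure Big (τ : MulAut T) (v e : T) (T₀ : Subgroup T) (k : ℕ) : Prop where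
  idx : T₀.index = 2
  k1 : 1 ≤ k
  cm : ∀ u, u ∉ T₀ → cc τ u ∈ T₀
  em : e ∈ T₀
  pow : ∀ u, u ∉ T₀ → cc τ u ^ (2 ^ k) = v * v
  gen : ∀ u, u ∉ T₀ → ∀ x ∈ T₀, ∃ i : ℤ, x = cc τ u ^ i ∨ x = cc τ u ^ i * e

theorem Cf.tc {τ : MulAut T} {v e : T} (C : Cf τ v e) (u : T) : τ (cc τ u) = (cc τ u)⁻¹ := by
  rw [cc, map_mul, map_inv, C.ττ]; group

theorem Cf.ce {τ : MulAut T} {v e : T} (C : Cf τ v e) (u : T) : cc τ u * e = e * cc τ u := by
  have hz : ∀ x : T, x * (v * v) * x⁻¹ = v * v := fun x => by rw [C.zc x]; group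
  have h3 : (cc τ u) * e * (cc τ u)⁻¹ = u⁻¹ * (τ u * e * (τ u)⁻¹) * u := by rw [cc]; group
  have h4 : τ u * e * (τ u)⁻¹ = τ (u * e * u⁻¹) * (v * v) := by
    have h5 : τ (u * e * u⁻¹) = τ u * (e * (v * v)) * (τ u)⁻¹ := by
      rw [map_mul, map_mul, map_inv, C.te]
    rw [h5]
    calc τ u * e * (τ u)⁻¹ = τ u * (e * ((v * v) * (v * v))) * (τ u)⁻¹ := by rw [C.v4, mul_one]
      _ = τ u * (e * (v * v)) * (v * v) * (τ u)⁻¹ := by group
      _ = τ u * (e * (v * v)) * ((τ u)⁻¹ * (v * v)) := by rw [C.zc (τ u)⁻¹]; group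
      _ = _ := by group
  have h6 : cc τ u * e * (cc τ u)⁻¹ = e := by
    rw [h3, h4]
    rcases C.en u with h | h
    · rw [h, C.te, mul_assoc e, C.v4, mul_one]
      nth_rewrite 1 [← h]
      group
    · rw [h, map_mul, C.te, C.tz, mul_assoc e, C.v4, mul_one, ← h]
      group
  exact mul_inv_eq_iff_eq_mul.mp h6

/-- `e` is not a power of `c` -/
theorem Cf.ne_pow' {τ : MulAut T} {v e : T} (C : Cf τ v e) (u : T) (i : ℤ) : cc τ u ^ i ≠ e := by
  intro h
  have h1 : τ (cc τ u ^ i) = (cc τ u ^ i)⁻¹ := by rw [map_zpow, C.tc, inv_zpow]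
  rw [h, C.te, C.ei] at h1
  exact C.v2 (mul_eq_left.mp h1)

/-- an abelian 2-group with at most one involution is cyclic -/
theorem cyclic_of_unique {B : Type*} [Group B] [Finite B] (hB : IsPGroup 2 B) (hc : IsMulCommutative B) (e : B)
    (h : ∀ x : B, x * x = 1 → x = 1 ∨ x = e) : IsCyclic B := by
  have : Fact (Nat.Prime 2) := ⟨Nat.prime_two⟩
  let _i : CommGroup B := { (inferInstance : Group B) with mul_comm := hc.is_comm.comm }
  refine Cfsg.Agent.Transfer.PGroupNormal.isCyclic_of_card_ker_pow_le (A := B) hB ?_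
  classical
  have hf : Fintype (powMonoidHom 2 : B →* B).ker := Fintype.ofFinite _
  have h1 : ∀ x : (powMonoidHom 2 : B →* B).ker, (x : B) = 1 ∨ (x : B) = e := by
    intro x
    apply h
    have h2 : (x : B) ^ 2 = 1 := x.2
    rw [pow_two] at h2
    exact h2
  have h2 : Nat.card (powMonoidHom 2 : B →* B).ker ≤ Nat.card ({1, e} : Finset B) := by
    refine Nat.card_le_card_of_injective (fun x => ⟨(x : B), by
      rcases h1 x with h3 | h3 <;> simp [h3]⟩) ?_
    intro x y hxy
    apply Subtype.ext
    exact congrArg (fun z : ({1, e} : Finset B) => (z : B)) hxy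
  refine h2.trans ?_
  rw [Nat.card_eq_fintype_card, Fintype.card_coe]
  exact Finset.card_le_two

theorem struct [Finite T] (hT : IsPGroup 2 T) {τ : MulAut T} {v e : T} (C : Cf τ v e) :
    (∀ x : T, x ∈ C.E ∨ v⁻¹ * x ∈ C.E) ∨ ∃ (T₀ : Subgroup T) (k : ℕ), Big τ v e T₀ k := by
  classical
  have h2p : Fact (Nat.Prime 2) := ⟨Nat.prime_two⟩
  have hEn := C.E_normal
  let γ : MulAut (T ⧸ C.E) := QuotientGroup.congr C.E C.E τ C.map_E
  have hγ : ∀ x : T, γ (x : T ⧸ C.E) = (τ x : T ⧸ C.E) := fun x => rfl
  have hfix : ∀ y : T ⧸ C.E, γ y = y → y = 1 ∨ y = (v : T ⧸ C.E) := by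
    intro y hy
    obtain ⟨x, rfl⟩ := QuotientGroup.mk_surjective y
    rw [hγ] at hy
    rcases C.fix_mod (QuotientGroup.eq.mp hy.symm) with h | h
    · left; exact (QuotientGroup.eq_one_iff _).mpr h
    · right; exact (QuotientGroup.eq.mpr h).symm
  have hv1 : (v : T ⧸ C.E) ≠ 1 := fun h => C.v_notMem ((QuotientGroup.eq_one_iff _).mp h)
  have hγv : γ (v : T ⧸ C.E) = (v : T ⧸ C.E) := by rw [hγ, C.fixv]
  have hTE : IsPGroup 2 (T ⧸ C.E) := hT.to_quotient C.E
  by_cases hγ1 : γ = 1
  · left
    intro x
    have h1 : γ (x : T ⧸ C.E) = (x : T ⧸ C.E) := by rw [hγ1]; rfl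
    rcases hfix _ h1 with h | h
    · left; exact (QuotientGroup.eq_one_iff _).mp h
    · right; exact QuotientGroup.eq.mp h.symm
  · right
    have hγγ : γ * γ = 1 := by
      ext y
      obtain ⟨x, rfl⟩ := QuotientGroup.mk_surjective y
      show γ (γ (x : T ⧸ C.E)) = _
      rw [hγ, hγ, C.ττ]; rfl
    have hord : orderOf γ = 2 := by
      have h1 : orderOf γ ∣ 2 := orderOf_dvd_of_pow_eq_one (by rw [pow_two, hγγ])
      rcases (Nat.dvd_prime Nat.prime_two).mp h1 with h | h
      · exact absurd (orderOf_eq_one_iff.mp h) hγ1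
      · exact h
    have hcard : Nat.card {h : T ⧸ C.E // γ h = h} = 2 := by
      have h1 : {h : T ⧸ C.E | γ h = h} = {1, (v : T ⧸ C.E)} := by
        ext y
        simp only [Set.mem_ofPred_eq, Set.mem_insert_iff, Set.mem_singleton_iff]
        constructor
        · exact hfix y
        · rintro (rfl | rfl)
          · exact map_one γ
          · exact hγv
      have h2 : Nat.card {h : T ⧸ C.E // γ h = h} = ({h : T ⧸ C.E | γ h = h}).ncard := rfl
      rw [h2, h1, Set.ncard_pair (Ne.symm hv1)]
    have hnt : Nontrivial (T ⧸ C.E) := ⟨⟨_, _, hv1⟩⟩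
    have hidx : ∃ M : Subgroup (T ⧸ C.E), M.index = 2 := by
      obtain ⟨n, hn⟩ := hTE.exists_card_eq
      have hn0 : n ≠ 0 := by
        rintro rfl
        rw [pow_zero] at hn
        exact absurd hn (Finite.one_lt_card).ne'
      obtain ⟨M, hM⟩ := Sylow.exists_subgroup_card_pow_prime (G := T ⧸ C.E) 2 (n := n - 1) (by
        rw [hn]; exact pow_dvd_pow 2 (by omega))
      refine ⟨M, ?_⟩
      have h1 := M.card_mul_index
      rw [hM, hn] at h1
      have h3 : 2 ^ n = 2 ^ (n - 1) * 2 := by rw [← pow_succ]; congr 1; omega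
      rw [h3] at h1
      exact Nat.eq_of_mul_eq_mul_left (by positivity) h1
    obtain ⟨M, hM2, hMc, hMγ, hMinv⟩ := (Cfsg.Agent.S3375.result γ hord).2 ⟨hcard, hidx⟩
    -- `M` is not trivial
    have hMbot : M ≠ ⊥ := by
      intro hM
      rw [hM, Subgroup.index_bot] at hM2
      apply hγ1
      apply MulEquiv.ext
      intro y
      show γ y = y
      by_contra hy
      have hy1 : y ≠ 1 := by rintro rfl; exact hy (map_one γ)
      have hyv : y ≠ v := by rintro rfl; exact hy hγv
      have h1 : ({1, (v : T ⧸ C.E), y} : Set (T ⧸ C.E)).ncard ≤ Nat.card (T ⧸ C.E) := Set.ncard_le_card _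
      have h2 : ({1, (v : T ⧸ C.E), y} : Set (T ⧸ C.E)).ncard = 3 :=
        Set.ncard_eq_three.mpr ⟨1, (v : T ⧸ C.E), y, Ne.symm hv1, Ne.symm hy1, Ne.symm hyv, rfl⟩
      rw [h2] at h1
      omega
    have hsqM : ∀ y ∈ M, y * y = 1 → y = 1 ∨ y = (v : T ⧸ C.E) := by
      intro y hy hyy
      apply hfix
      rw [hMinv y hy]
      exact inv_eq_of_mul_eq_one_left hyy
    have hMp : IsPGroup 2 M := hTE.to_subgroup M
    obtain ⟨k, hk⟩ := hMp.exists_card_eq
    have hk1 : 1 ≤ k := by
      rcases Nat.eq_zero_or_pos k with h | h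
      · exfalso
        rw [h, pow_zero] at hk
        exact hMbot (Subgroup.card_eq_one.mp hk)
      · exact h
    have hvM : (v : T ⧸ C.E) ∈ M := by
      obtain ⟨⟨y, hy⟩, hy2⟩ := exists_prime_orderOf_dvd_card' (G := M) 2 (by rw [hk]; exact dvd_pow_self 2 (by omega))
      rw [Subgroup.orderOf_mk] at hy2
      have h9 := pow_orderOf_eq_one y
      rw [hy2, pow_two] at h9
      rcases hsqM y hy h9 with h | h
      · rw [h, orderOf_one] at hy2; omega
      · rwa [← h]
    have hMcyc : IsCyclic M := by
      refine cyclic_of_unique hMp hMc ⟨v, hvM⟩ ?_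
      rintro ⟨y, hy⟩ hyy
      rcases hsqM y hy (congrArg Subtype.val hyy) with h | h
      · left; exact Subtype.ext h
      · right; exact Subtype.ext h
    obtain ⟨⟨g, hgM⟩, hg⟩ := hMcyc.exists_generator
    have hg' : ∀ y ∈ M, ∃ i : ℤ, y = g ^ i := by
      intro y hy
      obtain ⟨i, hi⟩ := Subgroup.mem_zpowers_iff.mp (hg ⟨y, hy⟩)
      exact ⟨i, (congrArg Subtype.val hi).symm⟩
    have hgpow : g ^ (2 ^ k) = 1 := by
      have h1 : (⟨g, hgM⟩ : M) ^ (2 ^ k) = 1 := by rw [← hk]; exact pow_card_eq_one'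
      exact congrArg Subtype.val h1
    have hγg : γ g = g⁻¹ := hMinv g hgM
    have hcmem : ∀ y : T ⧸ C.E, y ∉ M → y⁻¹ * γ y ∈ M := by
      intro y hy
      rw [Subgroup.mul_mem_iff_of_index_two hM2]
      refine iff_of_false (fun h => hy ((inv_mem_iff).mp h)) (fun h => hy ?_)
      have h1 := hMγ _ h
      have h2 : γ (γ y) = y := congrArg (fun δ : MulAut (T ⧸ C.E) => δ y) hγγ
      rwa [h2] at h1
    have hcgen : ∀ y : T ⧸ C.E, y ∉ M → ∀ x ∈ M, ∃ i : ℤ, x = (y⁻¹ * γ y) ^ i := by
      intro y hy x hx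
      obtain ⟨m, hm⟩ := hg' _ (hcmem y hy)
      have hodd : Odd m := by
        by_contra hne
        rw [Int.not_odd_iff_even] at hne
        obtain ⟨l, rfl⟩ := hne
        have h1 : γ (y * g ^ l) = y * g ^ l := by
          have h2 : γ y = y * g ^ (l + l) := inv_mul_eq_iff_eq_mul.mp hm
          rw [map_mul, map_zpow, hγg, h2]
          group
        have h3 : y * g ^ l ∈ M := by
          rcases hfix _ h1 with h | h
          · rw [h]; exact M.one_mem
          · rw [h]; exact hvM
        exact hy ((M.mul_mem_cancel_right (M.zpow_mem hgM l)).mp h3)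
      obtain ⟨t, ht⟩ := hodd
      have hco : IsCoprime m ((2 : ℤ) ^ k) := by
        apply IsCoprime.pow_right
        exact ⟨1, -t, by rw [ht]; ring⟩
      obtain ⟨a, b, hab⟩ := hco
      have h1 : g = (g ^ m) ^ a := by
        have h2 : g ^ (a * m + b * 2 ^ k) = g := by rw [hab, zpow_one]
        rw [zpow_add, zpow_mul', mul_comm b, zpow_mul] at h2
        have h3 : g ^ ((2 : ℤ) ^ k) = 1 := by
          have h4 : ((2 : ℤ) ^ k) = ((2 ^ k : ℕ) : ℤ) := by push_cast; rfl
          rw [h4, zpow_natCast, hgpow]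
        rw [h3, one_zpow, mul_one] at h2
        exact h2.symm
      obtain ⟨j, hj⟩ := hg' x hx
      refine ⟨a * j, ?_⟩
      rw [hm, zpow_mul, ← h1]
      exact hj
    have hmk : ∀ u : T, ((cc τ u : T) : T ⧸ C.E) = (u : T ⧸ C.E)⁻¹ * γ (u : T ⧸ C.E) := fun u => rfl
    have hpowz : ∀ u : T, (u : T ⧸ C.E) ∉ M → cc τ u ^ (2 ^ k) = v * v := by
      intro u hu
      have hu' : (u : T ⧸ C.E) ∉ M := hu
      set c := cc τ u with hc
      have hcM : ((c : T) : T ⧸ C.E) ∈ M := hcmem _ hu'
      have hz : Subgroup.zpowers ((c : T) : T ⧸ C.E) = M := by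
        apply le_antisymm
        · exact Subgroup.zpowers_le.mpr hcM
        · intro x hx
          obtain ⟨i, hi⟩ := hcgen _ hu' x hx
          exact Subgroup.mem_zpowers_iff.mpr ⟨i, hi.symm⟩
      have hordc : orderOf ((c : T) : T ⧸ C.E) = 2 ^ k := by
        rw [← Nat.card_zpowers, hz, hk]
      have hd : ((c ^ (2 ^ (k - 1)) : T) : T ⧸ C.E) = v := by
        have h1 : ((c ^ (2 ^ (k - 1)) : T) : T ⧸ C.E) = ((c : T) : T ⧸ C.E) ^ (2 ^ (k - 1)) := rfl
        rw [h1]
        rcases hsqM (((c : T) : T ⧸ C.E) ^ (2 ^ (k - 1))) (M.pow_mem hcM _) (by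
          rw [← pow_add, ← two_mul, ← pow_succ', Nat.sub_add_cancel hk1, ← hordc, pow_orderOf_eq_one]) with h | h
        · exfalso
          have h2 := orderOf_dvd_of_pow_eq_one h
          rw [hordc] at h2
          have h3 := (Nat.pow_dvd_pow_iff_le_right (by norm_num : 1 < 2)).mp h2
          omega
        · exact h
      have hdE : v⁻¹ * c ^ (2 ^ (k - 1)) ∈ C.E := QuotientGroup.eq.mp hd.symm
      have hτd : τ (c ^ (2 ^ (k - 1))) = (c ^ (2 ^ (k - 1)))⁻¹ := by
        rw [map_pow, hc, C.tc, inv_pow]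
      have hpow : c ^ (2 ^ k) = c ^ (2 ^ (k - 1)) * c ^ (2 ^ (k - 1)) := by
        rw [← pow_add, ← two_mul, ← pow_succ', Nat.sub_add_cancel hk1]
      rw [hpow]
      set d := c ^ (2 ^ (k - 1)) with hdd
      have hvz := C.zc v
      rcases hdE with h | h | h | h
      · exfalso
        have h1 : d = v := (inv_mul_eq_one.mp h).symm
        rw [h1, C.fixv] at hτd
        apply C.v2
        nth_rewrite 1 [hτd]
        group
      · exfalso
        have h1 : d = v * (v * v) := inv_mul_eq_iff_eq_mul.mp h
        rw [h1, map_mul, C.fixv, C.tz] at hτd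
        apply C.v2
        have h2 : (v * (v * v)) * (v * (v * v)) = 1 := by
          nth_rewrite 1 [hτd]
          group
        calc v * v = v * v * (v * v * (v * v)) := by rw [C.v4, mul_one]
          _ = (v * (v * v)) * (v * (v * v)) := by group
          _ = 1 := h2
      · have h1 : d = v * e := inv_mul_eq_iff_eq_mul.mp h
        have h2 : v * (e * (v * v)) = e * v⁻¹ := by
          have h3 := hτd
          rw [h1, map_mul, C.fixv, C.te, mul_inv_rev, C.ei] at h3
          exact h3
        have h4 : v * e = e * v := by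
          calc v * e = v * (e * (v * v)) * (v * v)⁻¹ := by group
            _ = e * v⁻¹ * (v * v) := by rw [h2, C.zi]
            _ = e * v := by group
        rw [h1]
        calc v * e * (v * e) = v * (e * v) * e := by group
          _ = v * v * (e * e) := by rw [← h4]; group
          _ = v * v := by rw [C.ee, mul_one]
      · have h1 : d = v * (e * (v * v)) := inv_mul_eq_iff_eq_mul.mp h
        have h2 : v * e = (v * v) * e * v⁻¹ := by
          have h3 := hτd
          rw [h1, map_mul, C.fixv, map_mul, C.te, C.tz, mul_assoc e, C.v4, mul_one, mul_inv_rev, mul_inv_rev,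
            C.zi, C.ei] at h3
          exact h3
        have h4 : v * e = e * v := by
          calc v * e = (v * v) * e * v⁻¹ := h2
            _ = e * (v * v) * v⁻¹ := by rw [← C.zc]
            _ = e * v := by group
        rw [h1]
        calc v * (e * (v * v)) * (v * (e * (v * v))) = v * (e * ((v * v) * v)) * (e * (v * v)) := by group
          _ = v * (e * (v * (v * v))) * (e * (v * v)) := by rw [← C.zc v]
          _ = (v * e) * v * ((v * v) * e) * (v * v) := by group
          _ = (v * e) * v * (e * (v * v)) * (v * v) := by rw [← C.zc e]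
          _ = (v * e) * (v * e) * ((v * v) * (v * v)) := by group
          _ = v * (e * v) * e := by rw [C.v4]; group
          _ = v * v * (e * e) := by rw [← h4]; group
          _ = v * v := by rw [C.ee, mul_one]
    refine ⟨M.comap (QuotientGroup.mk' C.E), k, ?_, hk1, ?_, ?_, ?_, ?_⟩
    · rw [Subgroup.index_comap_of_surjective _ (QuotientGroup.mk'_surjective _), hM2]
    · intro u hu
      exact hcmem _ hu
    · show ((e : T) : T ⧸ C.E) ∈ M
      have h1 : ((e : T) : T ⧸ C.E) = 1 := (QuotientGroup.eq_one_iff _).mpr (Or.inr (Or.inr (Or.inl rfl)))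
      rw [h1]; exact M.one_mem
    · intro u hu
      exact hpowz u hu
    · intro u hu x hx
      have hu' : (u : T ⧸ C.E) ∉ M := hu
      set c := cc τ u with hc
      have hcM : ((c : T) : T ⧸ C.E) ∈ M := hcmem _ hu'
      obtain ⟨i, hi⟩ := hcgen _ hu' (x : T ⧸ C.E) hx
      have h1 : ((c ^ i : T) : T ⧸ C.E) = (x : T ⧸ C.E) := hi.symm
      have hz : c ^ ((2 : ℤ) ^ k) = v * v := by
        have h4 : ((2 : ℤ) ^ k) = ((2 ^ k : ℕ) : ℤ) := by push_cast; rfl
        rw [h4, zpow_natCast]
        exact hpowz u hu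
      have h3 : ∀ w, (c ^ i)⁻¹ * x = w → x = c ^ i * w := fun w hw => inv_mul_eq_iff_eq_mul.mp hw
      rcases QuotientGroup.eq.mp h1 with h | h | h | h
      · exact ⟨i, Or.inl (by rw [h3 _ h, mul_one])⟩
      · exact ⟨i + 2 ^ k, Or.inl (by rw [h3 _ h, zpow_add, hz])⟩
      · exact ⟨i, Or.inr (h3 _ h)⟩
      · exact ⟨i + 2 ^ k, Or.inr (by rw [h3 _ h, zpow_add, hz, C.zc e]; group)⟩

/-- powers of an element of order two -/
theorem zpow_z {z : T} (hz : z * z = 1) (m : ℤ) : z ^ m = 1 ∨ z ^ m = z := by
  rcases Int.even_or_odd m with ⟨n, rfl⟩ | ⟨n, rfl⟩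
  · left; rw [← two_mul, zpow_mul, zpow_two, hz, one_zpow]
  · right; rw [zpow_add, zpow_mul, zpow_two, hz, one_zpow, one_mul, zpow_one]

/-- an involution `f` inverts `f⁻¹ τ(f)` -/
theorem inv_conj (τ : MulAut T) {f : T} (hf : f * f = 1) : f⁻¹ * cc τ f * f = (cc τ f)⁻¹ := by
  have h1 : f⁻¹ = f := inv_eq_of_mul_eq_one_left hf
  have h2 : (τ f)⁻¹ = τ f := by rw [← map_inv, h1]
  rw [cc, mul_inv_rev, inv_inv, h2, h1, ← mul_assoc f f, hf, one_mul]

namespace Big

variable {τ : MulAut T} {v e : T} {T₀ : Subgroup T} {k : ℕ} (B : Big τ v e T₀ k) (C : Cf τ v e)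

include B in
/-- a subgroup containing `c`, `e` and `u` is everything -/
theorem all_mem (H : Subgroup T) {u : T} (hu : u ∉ T₀) (h1 : cc τ u ∈ H) (h2 : e ∈ H) (h3 : u ∈ H) (x : T) :
    x ∈ H := by
  have key : ∀ y ∈ T₀, y ∈ H := by
    intro y hy
    rcases B.gen u hu y hy with ⟨i, h | h⟩ <;> rw [h]
    · exact H.zpow_mem h1 i
    · exact H.mul_mem (H.zpow_mem h1 i) h2
  by_cases hx : x ∈ T₀
  · exact key x hx
  · have h4 : u⁻¹ * x ∈ T₀ := by
      rw [Subgroup.mul_mem_iff_of_index_two B.idx, inv_mem_iff]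
      exact iff_of_false hu hx
    have h5 := H.mul_mem h3 (key _ h4)
    rwa [mul_inv_cancel_left] at h5

include B in
theorem exists_notMem : ∃ u, u ∉ T₀ := by
  by_contra hcon
  push Not at hcon
  have h1 : T₀ = ⊤ := (Subgroup.eq_top_iff' T₀).mpr hcon
  have h2 := B.idx
  rw [h1, Subgroup.index_top] at h2
  omega

include B C

theorem ord {u : T} (hu : u ∉ T₀) : orderOf (cc τ u) = 2 ^ (k + 1) := by
  have : Fact (Nat.Prime 2) := ⟨Nat.prime_two⟩
  apply orderOf_eq_prime_pow
  · rw [B.pow u hu]; exact C.v2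
  · rw [pow_succ, pow_mul, B.pow u hu, pow_two, C.v4]

omit C in
theorem zpow_two_pow {u : T} (hu : u ∉ T₀) : cc τ u ^ ((2 : ℤ) ^ k) = v * v := by
  have h4 : ((2 : ℤ) ^ k) = ((2 ^ k : ℕ) : ℤ) := by push_cast; rfl
  rw [h4, zpow_natCast]
  exact B.pow u hu

omit C in
theorem z_eq {u : T} (hu : u ∉ T₀) : (cc τ u * cc τ u) ^ ((2 : ℤ) ^ (k - 1)) = v * v := by
  have hk := B.k1
  rw [← zpow_two, ← zpow_mul, ← pow_succ', Nat.sub_add_cancel hk]
  exact B.zpow_two_pow hu

/-- squares of powers of `c` -/
theorem sq_pow {u : T} (hu : u ∉ T₀) (i : ℤ) (h : cc τ u ^ i * cc τ u ^ i = 1) :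
    cc τ u ^ i = 1 ∨ cc τ u ^ i = v * v := by
  rw [← zpow_add, ← orderOf_dvd_iff_zpow_eq_one, B.ord C hu, ← two_mul, pow_succ'] at h
  push_cast at h
  have h1 : (2 : ℤ) ^ k ∣ i := (mul_dvd_mul_iff_left (by norm_num : (2 : ℤ) ≠ 0)).mp h
  obtain ⟨m, rfl⟩ := h1
  rw [zpow_mul, B.zpow_two_pow hu]
  exact zpow_z C.v4 m

/-- involutions of `T₀` -/
theorem invol {x : T} (hx : x ∈ T₀) (hxx : x * x = 1) : x ∈ C.E := by
  obtain ⟨u, hu⟩ := B.exists_notMem
  rcases B.gen u hu x hx with ⟨i, h | h⟩
  · rw [h] at hxx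
    rcases B.sq_pow C hu i hxx with h1 | h1
    · left; rw [h, h1]
    · right; left; rw [h, h1]
  · have hc : Commute (cc τ u ^ i) e := (show Commute (cc τ u) e from C.ce u).zpow_left i
    have h2 : cc τ u ^ i * cc τ u ^ i = 1 := by
      rw [h] at hxx
      calc cc τ u ^ i * cc τ u ^ i = cc τ u ^ i * cc τ u ^ i * (e * e) := by rw [C.ee, mul_one]
        _ = cc τ u ^ i * (cc τ u ^ i * e) * e := by group
        _ = cc τ u ^ i * (e * cc τ u ^ i) * e := by rw [hc.eq]
        _ = cc τ u ^ i * e * (cc τ u ^ i * e) := by group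
        _ = 1 := hxx
    rcases B.sq_pow C hu i h2 with h1 | h1
    · right; right; left; rw [h, h1, one_mul]
    · right; right; right; rw [h, h1, C.zc]

/-- `T₀` is abelian -/
theorem comm {x y : T} (hx : x ∈ T₀) (hy : y ∈ T₀) : x * y = y * x := by
  obtain ⟨u, hu⟩ := B.exists_notMem
  have hc : Commute (cc τ u) e := C.ce u
  have h1 : ∀ x ∈ T₀, Commute (cc τ u) x := by
    intro x hx
    rcases B.gen u hu x hx with ⟨i, h | h⟩ <;> rw [h]
    · exact (Commute.refl _).zpow_right i
    · exact ((Commute.refl _).zpow_right i).mul_right hc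
  have h2 : ∀ x ∈ T₀, Commute e x := by
    intro x hx
    rcases B.gen u hu x hx with ⟨i, h | h⟩ <;> rw [h]
    · exact hc.symm.zpow_right i
    · exact (hc.symm.zpow_right i).mul_right (Commute.refl _)
  rcases B.gen u hu x hx with ⟨i, h | h⟩ <;> rw [h]
  · exact ((h1 y hy).zpow_left i).eq
  · exact (((h1 y hy).zpow_left i).mul_left (h2 y hy)).eq

/-- the action of `u` on `c` -/
theorem act {u : T} (hu : u ∉ T₀) : ∃ m : ℤ, u⁻¹ * cc τ u * u = (cc τ u)⁻¹ * (cc τ u * cc τ u) ^ m := by
  have hτu : τ u = u * cc τ u := by rw [cc]; group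
  have h1 : u⁻¹ * cc τ u * u * cc τ u = (u * u)⁻¹ * τ (u * u) := by
    rw [map_mul, hτu]; group
  have hc : Commute (cc τ u) e := C.ce u
  have huu : u * u ∈ T₀ := Subgroup.mul_self_mem_of_index_two B.idx u
  have key : ∀ m : ℤ, u⁻¹ * cc τ u * u * cc τ u = (cc τ u * cc τ u) ^ m →
      u⁻¹ * cc τ u * u = (cc τ u)⁻¹ * (cc τ u * cc τ u) ^ m := by
    intro m hm
    calc u⁻¹ * cc τ u * u = u⁻¹ * cc τ u * u * cc τ u * (cc τ u)⁻¹ := by group
      _ = (cc τ u * cc τ u) ^ m * (cc τ u)⁻¹ := by rw [hm]
      _ = (cc τ u)⁻¹ * (cc τ u * cc τ u) ^ m := by rw [← zpow_two]; group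
  rcases B.gen u hu _ huu with ⟨j, h | h⟩
  · refine ⟨-j, key _ ?_⟩
    rw [h1, h, map_zpow, C.tc, ← zpow_two]
    group
  · refine ⟨-j + 2 ^ (k - 1), key _ ?_⟩
    rw [h1, h, map_mul, map_zpow, C.tc, C.te, zpow_add, B.z_eq hu, mul_inv_rev, C.ei]
    have hcj : Commute ((cc τ u)⁻¹ ^ j) e := hc.inv_left.zpow_left j
    have hcj' : Commute (cc τ u ^ j)⁻¹ e := (hc.zpow_left j).inv_left
    calc e * (cc τ u ^ j)⁻¹ * ((cc τ u)⁻¹ ^ j * (e * (v * v)))
        = (e * (cc τ u ^ j)⁻¹) * ((cc τ u)⁻¹ ^ j * e) * (v * v) := by group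
      _ = ((cc τ u ^ j)⁻¹ * e) * (e * (cc τ u)⁻¹ ^ j) * (v * v) := by rw [hcj.eq, ← hcj'.eq]
      _ = (cc τ u ^ j)⁻¹ * (e * e) * (cc τ u)⁻¹ ^ j * (v * v) := by group
      _ = (cc τ u * cc τ u) ^ (-j) * (v * v) := by
        rw [C.ee, show cc τ u * cc τ u = cc τ u ^ (2 : ℤ) from (zpow_two _).symm]; group

/-- the commutator subgroup -/
theorem comm_le [Finite T] {u : T} (hu : u ∉ T₀) {x : T} (hx : x ∈ commutator T) :
    ∃ i : ℤ, x = (cc τ u * cc τ u) ^ i := by
  set c := cc τ u with hc
  set K := Subgroup.zpowers (c * c) with hK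
  have hce : Commute c e := C.ce u
  obtain ⟨m, hm⟩ := B.act C hu
  rw [← hc] at hm
  have hnorm : ∀ g : T, g ∈ Subgroup.normalizer (K : Set T) := by
    have h1 : c ∈ Subgroup.normalizer (K : Set T) := by
      apply Subgroup.mem_normalizer_fintype
      intro n hn
      obtain ⟨i, rfl⟩ := Subgroup.mem_zpowers_iff.mp hn
      refine Subgroup.mem_zpowers_iff.mpr ⟨i, ?_⟩
      rw [← zpow_two]; group
    have h2 : e ∈ Subgroup.normalizer (K : Set T) := by
      apply Subgroup.mem_normalizer_fintype
      intro n hn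
      obtain ⟨i, rfl⟩ := Subgroup.mem_zpowers_iff.mp hn
      refine Subgroup.mem_zpowers_iff.mpr ⟨i, ?_⟩
      have h3 : Commute e ((c * c) ^ i) := (hce.symm.mul_right hce.symm).zpow_right i
      rw [h3.eq]; group
    have h3 : u⁻¹ ∈ Subgroup.normalizer (K : Set T) := by
      apply Subgroup.mem_normalizer_fintype
      intro n hn
      obtain ⟨i, rfl⟩ := Subgroup.mem_zpowers_iff.mp hn
      refine Subgroup.mem_zpowers_iff.mpr ⟨(2 * m - 1) * i, ?_⟩
      have h4 : u⁻¹ * (c * c) ^ i * u⁻¹⁻¹ = ((u⁻¹ * c * u) * (u⁻¹ * c * u)) ^ i := by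
        have h5 : (u⁻¹ * c * u) * (u⁻¹ * c * u) = u⁻¹ * (c * c) * u⁻¹⁻¹ := by group
        rw [h5, conj_zpow]
      rw [h4, hm, zpow_mul]
      congr 1
      rw [← zpow_two c]; group
    exact B.all_mem (Subgroup.normalizer (K : Set T)) hu h1 h2 ((inv_mem_iff).mp h3)
  have hKn : K.Normal := by
    constructor
    intro n hn g
    exact (Subgroup.mem_normalizer_iff.mp (hnorm g) n).mp hn
  have hcomm : IsMulCommutative (T ⧸ K) := by
    let q : T →* T ⧸ K := QuotientGroup.mk' K
    have h1 : q c * q u = q u * q c := by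
      rw [← map_mul, ← map_mul]
      apply QuotientGroup.eq.mpr
      refine Subgroup.mem_zpowers_iff.mpr ⟨1 - m, ?_⟩
      have h5 : (c * u)⁻¹ * (u * c) = (u⁻¹ * c * u)⁻¹ * c := by group
      rw [h5, hm, mul_inv_rev, ← zpow_two c]; group
    have h2 : q c * q e = q e * q c := by rw [← map_mul, ← map_mul, hce.eq]
    have h3 : q e * q u = q u * q e := by
      rw [← map_mul, ← map_mul]
      apply QuotientGroup.eq.mpr
      have h6 : v * v ∈ K := Subgroup.mem_zpowers_iff.mpr ⟨2 ^ (k - 1), B.z_eq hu⟩
      have h5 : (e * u)⁻¹ * (u * e) = u⁻¹ * (e⁻¹ * (u * e * u⁻¹)) * u := by group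
      rw [h5]
      rcases C.en u with h | h
      · rw [h]
        have h7 : u⁻¹ * (e⁻¹ * e) * u = 1 := by group
        rw [h7]; exact K.one_mem
      · rw [h]
        have h7 : u⁻¹ * (e⁻¹ * (e * (v * v))) * u = v * v := by
          have h8 := C.zc u⁻¹
          calc u⁻¹ * (e⁻¹ * (e * (v * v))) * u = (u⁻¹ * (v * v)) * u := by group
            _ = v * v := by rw [h8]; group
        rw [h7]; exact h6
    have key : ∀ y : T ⧸ K, q c * y = y * q c → q e * y = y * q e → q u * y = y * q u → ∀ x : T, q x * y = y * q x := by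
      intro y hy1 hy2 hy3 x
      have := B.all_mem ((Subgroup.centralizer {y}).comap q) hu (u := u)
        (by
          show q c ∈ Subgroup.centralizer {y}
          rw [Subgroup.mem_centralizer_singleton_iff]; exact hy1)
        (by
          show q e ∈ Subgroup.centralizer {y}
          rw [Subgroup.mem_centralizer_singleton_iff]; exact hy2)
        (by
          show q u ∈ Subgroup.centralizer {y}
          rw [Subgroup.mem_centralizer_singleton_iff]; exact hy3) x
      exact Subgroup.mem_centralizer_singleton_iff.mp this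
    have k1 := key (q c) rfl h2.symm h1.symm
    have k2 := key (q e) h2 rfl h3.symm
    have k3 := key (q u) h1 h3 rfl
    constructor
    constructor
    intro x y
    obtain ⟨x, rfl⟩ := QuotientGroup.mk_surjective x
    obtain ⟨y, rfl⟩ := QuotientGroup.mk_surjective y
    exact key (q y) (k1 y).symm (k2 y).symm (k3 y).symm x
  have h1 := Subgroup.Normal.quotient_commutative_iff_commutator_le.mp hcomm hx
  obtain ⟨i, hi⟩ := Subgroup.mem_zpowers_iff.mp h1
  exact ⟨i, hi.symm⟩

/-- `e` is not in `T'⟨z⟩` -/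
theorem e_notMem [Finite T] {x : T} (hx : x ∈ commutator T) : x ≠ e ∧ x * (v * v) ≠ e := by
  obtain ⟨u, hu⟩ := B.exists_notMem
  obtain ⟨i, hi⟩ := B.comm_le C hu hx
  have h1 : (cc τ u * cc τ u) ^ i = cc τ u ^ (2 * i) := by rw [zpow_mul, zpow_two]
  constructor
  · rw [hi, h1]; exact C.ne_pow' u _
  · rw [hi, h1, ← B.zpow_two_pow hu, ← zpow_add]; exact C.ne_pow' u _

end Big

/-- the interface for the automorphisms induced by the normalizer of a Sylow 2-subgroup of a perfect group -/
structure LZ (𝒩 : Set (MulAut T)) : Prop where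
  lz : ∀ x : T, x * x = 1 → (∀ t, t * x = x * t) → (∀ α ∈ 𝒩, α x = x) → x ∈ commutator T
  odd : ∀ α ∈ 𝒩, ∃ m : ℕ, Odd m ∧ ∃ s : T, ∀ x, (α ^ m) x = s * x * s⁻¹

/-- the interface modulo a central subgroup of order two -/
def LZ2 (𝒩 : Set (MulAut T)) (z : T) : Prop :=
  ∀ x : T, (x * x = 1 ∨ x * x = z) → (∀ t, t * x * t⁻¹ = x ∨ t * x * t⁻¹ = x * z) →
    (∀ α ∈ 𝒩, α x = x ∨ α x = x * z) → ∃ s ∈ commutator T, x = s ∨ x = s * z

theorem map_commutator_mem (α : MulAut T) {x : T} (hx : x ∈ commutator T) : α x ∈ commutator T := by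
  have h1 := (inferInstance : (commutator T).Characteristic).fixed α
  rw [← h1] at hx
  exact hx

namespace Big

variable {τ : MulAut T} {v e : T} {T₀ : Subgroup T} {k : ℕ} (B : Big τ v e T₀ k) (C : Cf τ v e)

include B C

/-- no involution outside `T₀` centralises `e` -/
theorem no_inv [Finite T] {𝒩 : Set (MulAut T)} (hN : LZ 𝒩) {f : T} (hf : f ∉ T₀) (hff : f * f = 1)
    (hfe : f * e = e * f) : False := by
  have hk := B.k1
  set c := cc τ f with hc
  have hce : Commute c e := C.ce f
  have hfi : f⁻¹ = f := inv_eq_of_mul_eq_one_left hff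
  have hcf : f⁻¹ * c * f = c⁻¹ := inv_conj τ hff
  have hcc : c * c ≠ 1 := by
    intro h
    have h1 := B.z_eq hf
    rw [← hc, h, one_zpow] at h1
    exact C.v2 h1.symm
  -- `e` is central
  have hec : ∀ t, t * e = e * t := by
    intro t
    have := B.all_mem (Subgroup.centralizer {e}) hf
      (Subgroup.mem_centralizer_singleton_iff.mpr (C.ce f))
      (Subgroup.mem_centralizer_singleton_iff.mpr rfl)
      (Subgroup.mem_centralizer_singleton_iff.mpr hfe) t
    exact Subgroup.mem_centralizer_singleton_iff.mp this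
  -- `c²` and `z` are commutators
  have hcT : c * c ∈ commutator T := by
    have h1 : ⁅c⁻¹, f⁻¹⁆ ∈ commutator T := Subgroup.commutator_mem_commutator (Subgroup.mem_top _) (Subgroup.mem_top _)
    have h2 : ⁅c⁻¹, f⁻¹⁆ = (c * c)⁻¹ := by
      rw [commutatorElement_def]
      have h3 : c⁻¹ * f⁻¹ * c⁻¹⁻¹ * f⁻¹⁻¹ = c⁻¹ * (f⁻¹ * c * f) := by group
      rw [h3, hcf, mul_inv_rev]
    rw [h2] at h1
    exact inv_mem_iff.mp h1
  have hzT : v * v ∈ commutator T := by
    rw [← B.z_eq hf]
    exact Subgroup.zpow_mem _ hcT _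
  have hαz : ∀ α : MulAut T, α (v * v) = v * v := by
    intro α
    obtain ⟨i, hi⟩ := B.comm_le C hf (map_commutator_mem α hzT)
    rw [← hc] at hi
    have h1 : (c * c) ^ i = c ^ (2 * i) := by rw [zpow_mul, zpow_two]
    rw [h1] at hi
    have h2 : α (v * v) * α (v * v) = 1 := by rw [← map_mul, C.v4, map_one]
    rw [hi] at h2 ⊢
    rcases B.sq_pow C hf _ h2 with h3 | h3
    · exfalso
      rw [← hc, ← hi] at h3
      exact C.v2 (α.injective (h3.trans (map_one α).symm))
    · exact h3
  -- the center
  have hcen : ∀ x : T, (∀ t, t * x = x * t) → x ∈ C.E := by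
    intro x hx
    by_cases hx0 : x ∈ T₀
    · rcases B.gen f hf x hx0 with ⟨i, h⟩
      rw [← hc] at h
      have h1 : c ^ i * f = f * c ^ i := by
        rcases h with h | h
        · rw [← h]; exact (hx f).symm
        · have h3 := hx f
          rw [h] at h3
          have h4 : f * c ^ i * e = c ^ i * f * e := by
            calc f * c ^ i * e = f * (c ^ i * e) := by group
              _ = c ^ i * (e * f) := by rw [h3]; group
              _ = c ^ i * f * e := by rw [← hec f]; group
          exact (mul_right_cancel h4).symm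
      have h2 : c ^ i * c ^ i = 1 := by
        have h3 : f⁻¹ * c ^ i * f = (c ^ i)⁻¹ := by
          have h4 : f⁻¹ * c ^ i * f = (f⁻¹ * c * f) ^ i := by
            have := conj_zpow (a := f⁻¹) (b := c) (i := i)
            rw [inv_inv] at this
            exact this.symm
          rw [h4, hcf, inv_zpow]
        have h5 : f⁻¹ * c ^ i * f = c ^ i := by rw [mul_assoc, h1]; group
        rw [h5] at h3
        nth_rewrite 1 [h3]
        group
      rcases B.sq_pow C hf i h2 with h3 | h3 <;> rw [← hc] at h3 <;> rcases h with h | h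
      · left; rw [h, h3]
      · right; right; left; rw [h, h3, one_mul]
      · right; left; rw [h, h3]
      · right; right; right; rw [h, h3, C.zc]
    · exfalso
      have h1 : x⁻¹ * f ∈ T₀ := by
        rw [Subgroup.mul_mem_iff_of_index_two B.idx, inv_mem_iff]
        exact iff_of_false hx0 hf
      have h2 := B.comm C (B.cm f hf) h1
      rw [← hc] at h2
      have h3 : c * f = f * c := by
        calc c * f = (c * x) * (x⁻¹ * f) := by group
          _ = x * (c * (x⁻¹ * f)) := by rw [hx c]; group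
          _ = f * c := by rw [h2]; group
      have h4 : f⁻¹ * c * f = c := by rw [mul_assoc, h3]; group
      rw [hcf] at h4
      apply hcc
      nth_rewrite 1 [← h4]
      group
  -- the normalizer centralises `e`
  have hαe : ∀ α ∈ 𝒩, α e = e := by
    intro α hα
    have h1 : ∀ t, t * α e = α e * t := by
      intro t
      have h2 := hec (α.symm t)
      have h3 := congrArg α h2
      rw [map_mul, map_mul, MulEquiv.apply_symm_apply] at h3
      exact h3
    rcases hcen _ h1 with h | h | h | h
    · exact absurd (α.injective (h.trans (map_one α).symm)) C.e1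
    · exact absurd (α.injective (h.trans (hαz α).symm)) C.ez
    · exact h
    · exfalso
      have h2 : ∀ n : ℕ, (α ^ (2 * n)) e = e := by
        intro n
        induction n with
        | zero => rfl
        | succ n ih =>
          have h3 : α ^ (2 * (n + 1)) = α ^ (2 * n) * (α * α) := by rw [← pow_two, ← pow_add]; ring_nf
          rw [h3]
          show (α ^ (2 * n)) (α (α e)) = e
          rw [h, map_mul, h, hαz, mul_assoc, C.v4, mul_one, ih]
      obtain ⟨m, ⟨n, hn⟩, s, hs⟩ := hN.odd α hα
      have h3 := hs e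
      rw [hec s, mul_inv_cancel_right, hn, pow_succ'] at h3
      have h4 : α ((α ^ (2 * n)) e) = e := h3
      rw [h2, h] at h4
      exact C.v2 (mul_eq_left.mp h4)
  exact (B.e_notMem C (hN.lz e C.ee hec hαe)).1 rfl

/-- the 2-rank -/
theorem rank [Finite T] (hno : ∀ f, f ∉ T₀ → f * f = 1 → f * e = e * f → False) : Cfsg.PRankLE 2 2 T := by
  classical
  intro A hAc hA2
  have hsq : ∀ x ∈ A, x * x = 1 := fun x hx => by rw [← pow_two]; exact hA2 x hx
  have hcA : ∀ x ∈ A, ∀ y ∈ A, x * y = y * x := fun x hx y hy =>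
    congrArg Subtype.val (hAc.is_comm.comm (⟨x, hx⟩ : A) ⟨y, hy⟩)
  by_cases hle : A ≤ T₀
  · have h1 : ∀ x : A, (x : T) ∈ ({1, v * v, e, e * (v * v)} : Finset T) := by
      intro x
      rcases B.invol C (hle x.2) (hsq x x.2) with h | h | h | h <;> rw [h] <;> simp
    have h2 : Nat.card A ≤ Nat.card ({1, v * v, e, e * (v * v)} : Finset T) := by
      refine Nat.card_le_card_of_injective (fun x => ⟨(x : T), h1 x⟩) ?_
      intro x y hxy
      exact Subtype.ext (congrArg (fun z : ({1, v * v, e, e * (v * v)} : Finset T) => (z : T)) hxy)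
    refine h2.trans ?_
    rw [Nat.card_eq_fintype_card, Fintype.card_coe]
    exact Finset.card_le_four
  · obtain ⟨f, hfA, hf⟩ := Set.not_subset.mp hle
    have heA : e ∉ A := fun h => hno f hf (hsq f hfA) (hcA f hfA e h)
    have hezA : e * (v * v) ∉ A := by
      intro h
      refine hno f hf (hsq f hfA) ?_
      have h1 := hcA f hfA _ h
      have h2 : f * e * (v * v) = e * f * (v * v) := by
        calc f * e * (v * v) = f * (e * (v * v)) := by group
          _ = e * ((v * v) * f) := by rw [h1]; group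
          _ = e * f * (v * v) := by rw [← C.zc f]; group
      exact mul_right_cancel h2
    have h1 : ∀ x : T₀.subgroupOf A, ((x : A) : T) ∈ ({1, v * v} : Finset T) := by
      intro x
      have hx1 : ((x : A) : T) ∈ A := (x : A).2
      have hx0 : ((x : A) : T) ∈ T₀ := Subgroup.mem_subgroupOf.mp x.2
      rcases B.invol C hx0 (hsq _ hx1) with h | h | h | h
      · rw [h]; simp
      · rw [h]; simp
      · rw [h] at hx1; exact absurd hx1 heA
      · rw [h] at hx1; exact absurd hx1 hezA
    have h2 : Nat.card (T₀.subgroupOf A) ≤ Nat.card ({1, v * v} : Finset T) := by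
      refine Nat.card_le_card_of_injective (fun x => ⟨((x : A) : T), h1 x⟩) ?_
      intro x y hxy
      exact Subtype.ext (Subtype.ext (congrArg (fun z : ({1, v * v} : Finset T) => (z : T)) hxy))
    have h3 : Nat.card ({1, v * v} : Finset T) ≤ 2 := by
      rw [Nat.card_eq_fintype_card, Fintype.card_coe]
      exact Finset.card_le_two
    have h4 : (T₀.subgroupOf A).index ≤ 2 := by
      have h5 : (T₀.subgroupOf A).index ∣ T₀.index := by
        have hn : T₀.Normal := Subgroup.normal_of_index_eq_two B.idx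
        exact Subgroup.relIndex_dvd_index_of_normal T₀ A
      rw [B.idx] at h5
      exact Nat.le_of_dvd (by norm_num) h5
    rw [← (T₀.subgroupOf A).card_mul_index]
    calc Nat.card (T₀.subgroupOf A) * (T₀.subgroupOf A).index ≤ 2 * 2 :=
        Nat.mul_le_mul (h2.trans h3) h4
      _ = 2 ^ 2 := by norm_num

/-- the case of a central involution `z` -/
theorem no_central [Finite T] {𝒩 : Set (MulAut T)} (hN : LZ 𝒩) (hz : ∀ α ∈ 𝒩, α (v * v) = v * v)
    (h2 : LZ2 𝒩 (v * v)) : False := by
  have hk := B.k1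
  have hzT : v * v ∈ commutator T := hN.lz _ C.v4 C.zc hz
  by_cases hk2 : 2 ≤ k
  · -- `E` is invariant
    have hα : ∀ α ∈ 𝒩, α e = e ∨ α e = e * (v * v) := by
      intro α hα
      have h1 : α e * α e = 1 := by rw [← map_mul, C.ee, map_one]
      have h3 : α e ∈ T₀ := by
        by_contra hf
        have h4 := inv_conj τ h1
        set c := cc τ (α e) with hc
        have h5 : ∀ t, t * α e * t⁻¹ = α e ∨ t * α e * t⁻¹ = α e * (v * v) := by
          intro t
          rcases C.en (α.symm t) with h | h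
          · left
            have h6 := congrArg α h
            rw [map_mul, map_mul, map_inv, MulEquiv.apply_symm_apply] at h6
            exact h6
          · right
            have h6 := congrArg α h
            rw [map_mul, map_mul, map_inv, MulEquiv.apply_symm_apply, map_mul, hz α hα] at h6
            exact h6
        have h6 : (c * c) * (c * c) = 1 := by
          have h8 : ∀ w : T, w * w = 1 → (∀ x, x * w = w * x) → c * α e * c⁻¹ = α e * w →
              (c * c) * (c * c) = 1 := by
            intro w hw hwc h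
            have h9 : (α e)⁻¹ * c * α e = w * c := by
              calc (α e)⁻¹ * c * α e = (α e)⁻¹ * (c * α e * c⁻¹) * c := by group
                _ = w * c := by rw [h]; group
            rw [h4] at h9
            have h10 : c * c = w⁻¹ := by
              calc c * c = w⁻¹ * (w * c) * c := by group
                _ = w⁻¹ := by rw [← h9]; group
            rw [h10, ← mul_inv_rev, hw, inv_one]
          rcases h5 c with h | h
          · exact h8 1 (one_mul 1) (fun x => by rw [mul_one, one_mul]) (by rw [mul_one]; exact h)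
          · exact h8 (v * v) C.v4 C.zc h
        have h7 := B.pow (α e) hf
        rw [← hc] at h7
        have h8 : 2 ^ k = 2 * 2 * 2 ^ (k - 2) := by
          have h9 : k = (k - 2) + 2 := by omega
          conv_lhs => rw [h9, pow_add]
          ring
        rw [h8, pow_mul, pow_mul, pow_two, pow_two, h6, one_pow] at h7
        exact C.v2 h7.symm
      rcases B.invol C h3 h1 with h | h | h | h
      · exact absurd (α.injective (h.trans (map_one α).symm)) C.e1
      · exact absurd (α.injective (h.trans (hz α hα).symm)) C.ez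
      · exact Or.inl h
      · exact Or.inr h
    obtain ⟨s, hs, h⟩ := h2 e (Or.inl C.ee) C.en hα
    rcases h with h | h
    · exact (B.e_notMem C hs).1 h.symm
    · exact (B.e_notMem C hs).2 h.symm
  · have hk1 : k = 1 := by omega
    obtain ⟨u, hu⟩ := B.exists_notMem
    set c := cc τ u with hc
    have hcz : c * c = v * v := by
      have := B.pow u hu
      rwa [hk1, pow_one, pow_two] at this
    have hce : Commute c e := C.ce u
    have hcomm : ∀ x ∈ commutator T, x = 1 ∨ x = v * v := by
      intro x hx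
      obtain ⟨i, hi⟩ := B.comm_le C hu hx
      rw [hi, ← hc, hcz]
      exact zpow_z C.v4 i
    have hcT : c ∈ T₀ := B.cm u hu
    -- not both `c` and `e` commute with `u`
    have hnot : c * u = u * c → e * u = u * e → False := by
      intro h1 h3
      have k1 : ∀ y, c * y = y * c → e * y = y * e → u * y = y * u → ∀ x, x * y = y * x := by
        intro y hy1 hy2 hy3 x
        have := B.all_mem (Subgroup.centralizer {y}) hu (Subgroup.mem_centralizer_singleton_iff.mpr hy1)
          (Subgroup.mem_centralizer_singleton_iff.mpr hy2) (Subgroup.mem_centralizer_singleton_iff.mpr hy3) x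
        exact Subgroup.mem_centralizer_singleton_iff.mp this
      have kc := k1 c rfl hce.eq.symm h1.symm
      have ke := k1 e hce.eq rfl h3.symm
      have ku := k1 u h1 h3 rfl
      have kall : ∀ x y : T, x * y = y * x := fun x y => k1 y (kc y).symm (ke y).symm (ku y).symm x
      have h4 : commutator T = ⊥ := by
        rw [eq_bot_iff, commutator_eq_closure, Subgroup.closure_le]
        rintro _ ⟨x, y, rfl⟩
        rw [commutatorElement_def, kall x y]
        simp
      rw [h4, Subgroup.mem_bot] at hzT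
      exact C.v2 hzT
    -- the conjugates of `c`
    have hcu : u * c * u⁻¹ = c ∨ u * c * u⁻¹ = c * (v * v) := by
      obtain ⟨m, hm⟩ := B.act C hu
      rw [← hc, hcz] at hm
      have hci : c⁻¹ = c * (v * v) := by
        apply inv_eq_of_mul_eq_one_right
        rw [← mul_assoc, hcz, C.v4]
      have h1 : u⁻¹ * c * u = c ∨ u⁻¹ * c * u = c * (v * v) := by
        rcases zpow_z C.v4 m with h | h
        · right; rw [hm, h, mul_one, hci]
        · left; rw [hm, h, hci, mul_assoc, C.v4, mul_one]
      rcases h1 with h | h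
      · left
        nth_rewrite 1 [← h]
        group
      · right
        have h3 : c = u * c * u⁻¹ * (v * v) := by
          calc c = u * (u⁻¹ * c * u) * u⁻¹ := by group
            _ = u * (c * (v * v)) * u⁻¹ := by rw [h]
            _ = u * c * ((v * v) * u⁻¹) := by group
            _ = u * c * u⁻¹ * (v * v) := by rw [← C.zc u⁻¹]; group
        nth_rewrite 2 [h3]
        rw [mul_assoc _ (v * v), C.v4, mul_one]
    -- the set of three elements
    obtain ⟨f, hf, hfu⟩ : ∃ f : T, (f = c ∨ f = e ∨ f = c * e) ∧ f * u = u * f := by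
      rcases hcu with h | h
      · exact ⟨c, Or.inl rfl, (mul_inv_eq_iff_eq_mul.mp h).symm⟩
      · rcases C.en u with h1 | h1
        · exact ⟨e, Or.inr (Or.inl rfl), (mul_inv_eq_iff_eq_mul.mp h1).symm⟩
        · refine ⟨c * e, Or.inr (Or.inr rfl), ?_⟩
          have h3 : u * (c * e) * u⁻¹ = c * e := by
            calc u * (c * e) * u⁻¹ = (u * c * u⁻¹) * (u * e * u⁻¹) := by group
              _ = c * ((v * v) * e) * (v * v) := by rw [h, h1]; group
              _ = c * e * ((v * v) * (v * v)) := by rw [← C.zc e]; group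
              _ = c * e := by rw [C.v4, mul_one]
          exact (mul_inv_eq_iff_eq_mul.mp h3).symm
    have hfT : f ∈ T₀ := by
      rcases hf with h | h | h <;> rw [h]
      · exact hcT
      · exact B.em
      · exact T₀.mul_mem hcT B.em
    have hfcen : ∀ t, t * f = f * t := by
      intro t
      have := B.all_mem (Subgroup.centralizer {f}) hu
        (Subgroup.mem_centralizer_singleton_iff.mpr (B.comm C hcT hfT))
        (Subgroup.mem_centralizer_singleton_iff.mpr (B.comm C B.em hfT))
        (Subgroup.mem_centralizer_singleton_iff.mpr hfu.symm) t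
      exact Subgroup.mem_centralizer_singleton_iff.mp this
    have hcc1 : c ≠ 1 := by
      intro h
      rw [h, one_mul] at hcz
      exact C.v2 hcz.symm
    have hf1 : f ≠ 1 ∧ f ≠ v * v := by
      have hce1 : ∀ w : T, w * w = 1 → c * e ≠ w := by
        intro w hw h
        have h3 : (c * e) * (c * e) = v * v := by
          calc (c * e) * (c * e) = c * (e * c) * e := by group
            _ = (c * c) * (e * e) := by rw [← hce.eq]; group
            _ = v * v := by rw [hcz, C.ee, mul_one]
        rw [h, hw] at h3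
        exact C.v2 h3.symm
      have hc1 : ∀ w : T, w * w = 1 → c ≠ w := by
        intro w hw h
        rw [h, hw] at hcz
        exact C.v2 hcz.symm
      rcases hf with h | h | h <;> rw [h]
      · exact ⟨hc1 1 (one_mul 1), hc1 _ C.v4⟩
      · exact ⟨C.e1, C.ez⟩
      · exact ⟨hce1 1 (one_mul 1), hce1 _ C.v4⟩
    have hff : f * f = 1 ∨ f * f = v * v := by
      rcases hf with h | h | h <;> rw [h]
      · right; exact hcz
      · left; exact C.ee
      · right
        calc (c * e) * (c * e) = c * (e * c) * e := by group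
            _ = (c * c) * (e * e) := by rw [← hce.eq]; group
            _ = v * v := by rw [hcz, C.ee, mul_one]
    -- central elements
    have hcen : ∀ x : T, (∀ t, t * x = x * t) → x ≠ 1 → x ≠ v * v → x = f ∨ x = f * (v * v) := by
      intro x hx hx1 hxz
      have hx0 : x ∈ T₀ := by
        by_contra hx0
        have h1 : x⁻¹ * u ∈ T₀ := by
          rw [Subgroup.mul_mem_iff_of_index_two B.idx, inv_mem_iff]
          exact iff_of_false hx0 hu
        have h3 : ∀ y ∈ T₀, y * u = u * y := by
          intro y hy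
          have h4 := B.comm C hy h1
          calc y * u = (y * x) * (x⁻¹ * u) := by group
            _ = x * (y * (x⁻¹ * u)) := by rw [hx y]; group
            _ = u * y := by rw [h4]; group
        exact hnot (h3 c hcT) (h3 e B.em)
      -- `x = a` or `x = az`
      have hdec : ∃ a : T, (a = c ∨ a = e ∨ a = c * e) ∧ (x = a ∨ x = a * (v * v)) := by
        have hpow : ∀ i : ℤ, c ^ i = 1 ∨ c ^ i = v * v ∨ c ^ i = c ∨ c ^ i = c * (v * v) := by
          intro i
          rcases Int.even_or_odd i with ⟨n, hn⟩ | ⟨n, hn⟩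
          · have h3 : c ^ i = (v * v) ^ n := by rw [hn, ← two_mul, zpow_mul, zpow_two, hcz]
            rcases zpow_z C.v4 n with h | h
            · left; rw [h3, h]
            · right; left; rw [h3, h]
          · have h3 : c ^ i = c * (v * v) ^ n := by
              rw [hn, add_comm, zpow_add, zpow_one, zpow_mul, zpow_two, hcz]
            rcases zpow_z C.v4 n with h | h
            · right; right; left; rw [h3, h, mul_one]
            · right; right; right; rw [h3, h]
        rcases B.gen u hu x hx0 with ⟨i, h | h⟩ <;> rw [← hc] at h <;>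
          rcases hpow i with h3 | h3 | h3 | h3 <;> rw [h3] at h
        · exact absurd h hx1
        · exact absurd h hxz
        · exact ⟨c, Or.inl rfl, Or.inl h⟩
        · exact ⟨c, Or.inl rfl, Or.inr h⟩
        · exact ⟨e, Or.inr (Or.inl rfl), Or.inl (by rw [h, one_mul])⟩
        · exact ⟨e, Or.inr (Or.inl rfl), Or.inr (by rw [h, C.zc])⟩
        · exact ⟨c * e, Or.inr (Or.inr rfl), Or.inl h⟩
        · refine ⟨c * e, Or.inr (Or.inr rfl), Or.inr ?_⟩
          rw [h, mul_assoc, ← C.zc e, mul_assoc]
      obtain ⟨a, ha, hxa⟩ := hdec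
      have hau : a * u = u * a := by
        rcases hxa with h | h
        · rw [← h]; exact (hx u).symm
        · have h3 := hx u
          rw [h] at h3
          have h4 : u * a * (v * v) = a * u * (v * v) := by
            calc u * a * (v * v) = u * (a * (v * v)) := by group
              _ = a * ((v * v) * u) := by rw [h3]; group
              _ = a * u * (v * v) := by rw [← C.zc u]; group
          exact (mul_right_cancel h4).symm
      have haf : a = f := by
        by_contra hne
        have hmul : ∀ p q : T, p * u = u * p → q * u = u * q → (p⁻¹ * q) * u = u * (p⁻¹ * q) := by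
          intro p q hp hq
          exact ((show Commute p u from hp).inv_left.mul_left (show Commute q u from hq)).eq
        have hcee : (c * e) * e⁻¹ = c := by group
        have hcec : c⁻¹ * (c * e) = e := by group
        have hecc : e⁻¹ * (c * e) = c := by
          rw [hce.eq]; group
        rcases ha with rfl | rfl | rfl <;> rcases hf with h | h | h
        · exact hne h.symm
        · rw [h] at hfu; exact hnot hau hfu
        · rw [h] at hfu
          refine hnot hau ?_
          have := hmul _ _ hau hfu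
          rwa [hcec] at this
        · rw [h] at hfu; exact hnot hfu hau
        · exact hne h.symm
        · rw [h] at hfu
          refine hnot ?_ hau
          have := hmul _ _ hau hfu
          rwa [hecc] at this
        · rw [h] at hfu
          refine hnot hfu ?_
          have := hmul _ _ hfu hau
          rwa [hcec] at this
        · rw [h] at hfu
          refine hnot ?_ hfu
          have := hmul _ _ hfu hau
          rwa [hecc] at this
        · exact hne h.symm
      rw [← haf]; exact hxa
    obtain ⟨s, hs, h⟩ := h2 f hff (fun t => Or.inl (by rw [hfcen t]; group)) (by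
      intro α hα
      apply hcen
      · intro t
        have h3 := congrArg α (hfcen (α.symm t))
        rw [map_mul, map_mul, MulEquiv.apply_symm_apply] at h3
        exact h3
      · intro h
        exact hf1.1 (α.injective (h.trans (map_one α).symm))
      · intro h
        exact hf1.2 (α.injective (h.trans (hz α hα).symm)))
    rcases hcomm s hs with h3 | h3 <;> rcases h with h | h <;> rw [h3] at h
    · exact hf1.1 h
    · rw [one_mul] at h; exact hf1.2 h
    · exact hf1.2 h
    · rw [C.v4] at h; exact hf1.1 h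

end Big

theorem Cf.card_E {τ : MulAut T} {v e : T} (C : Cf τ v e) : Nat.card C.E = 4 := by
  classical
  have h1 : Nat.card C.E = ({1, v * v, e, e * (v * v)} : Finset T).card :=
    Nat.subtype_card _ (by intro x; simp only [Finset.mem_insert, Finset.mem_singleton]; rfl)
  rw [h1, Finset.card_insert_of_notMem, Finset.card_insert_of_notMem, Finset.card_insert_of_notMem,
    Finset.card_singleton]
  · rw [Finset.mem_singleton]
    intro h
    exact C.v2 (mul_eq_left.mp h.symm)
  · simp only [Finset.mem_insert, Finset.mem_singleton, not_or]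
    exact ⟨Ne.symm C.ez, fun h => C.e1 (mul_eq_right.mp h.symm)⟩
  · simp only [Finset.mem_insert, Finset.mem_singleton, not_or]
    refine ⟨Ne.symm C.v2, Ne.symm C.e1, fun h => C.ez ?_⟩
    rw [← C.zi]
    exact eq_inv_of_mul_eq_one_left h.symm

theorem Cf.sq_E {τ : MulAut T} {v e : T} (C : Cf τ v e) {x : T} (hx : x ∈ C.E) : x * x = 1 := by
  rcases hx with rfl | rfl | rfl | rfl
  · exact one_mul 1
  · exact C.v4
  · exact C.ee
  · calc e * (v * v) * (e * (v * v)) = e * ((v * v) * e) * (v * v) := by group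
      _ = (e * e) * ((v * v) * (v * v)) := by rw [← C.zc e]; group
      _ = 1 := by rw [C.ee, C.v4, mul_one]

/-- the case `T = E ∪ vE` -/
theorem small [Finite T] {τ : MulAut T} {v e : T} (C : Cf τ v e) (h : ∀ x : T, x ∈ C.E ∨ v⁻¹ * x ∈ C.E)
    {𝒩 : Set (MulAut T)} (hN : LZ 𝒩) :
    (∃ m : ℕ, 2 ≤ m ∧ Nonempty (T ≃* DihedralGroup m)) ∨ Cfsg.IsQuasiDihedral T := by
  by_cases hve : v * e = e * v
  · exfalso
    have hvE : ∀ w ∈ C.E, v * w = w * v := by
      rintro w (rfl | rfl | rfl | rfl)
      · rw [mul_one, one_mul]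
      · exact C.zc v
      · exact hve
      · calc v * (e * (v * v)) = (v * e) * (v * v) := by group
          _ = e * (v * (v * v)) := by rw [hve]; group
          _ = e * (v * v) * v := by rw [C.zc v]; group
    have hEE : ∀ w ∈ C.E, ∀ x ∈ C.E, w * x = x * w := by
      intro w hw x hx
      have h1 := C.sq_E (C.E.mul_mem hw hx)
      have h2 : x⁻¹ = x := inv_eq_of_mul_eq_one_left (C.sq_E hx)
      have h3 : w⁻¹ = w := inv_eq_of_mul_eq_one_left (C.sq_E hw)
      calc w * x = (w * x)⁻¹ := (inv_eq_of_mul_eq_one_left h1).symm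
        _ = x * w := by rw [mul_inv_rev, h2, h3]
    have hdec : ∀ x : T, ∃ w ∈ C.E, x = w ∨ x = v * w := by
      intro x
      rcases h x with h1 | h1
      · exact ⟨x, h1, Or.inl rfl⟩
      · exact ⟨_, h1, Or.inr (by group)⟩
    have hall : ∀ x y : T, x * y = y * x := by
      intro x y
      obtain ⟨w, hw, hx⟩ := hdec x
      obtain ⟨w', hw', hy⟩ := hdec y
      have c1 : Commute v w := hvE w hw
      have c2 : Commute v w' := hvE w' hw'
      have c3 : Commute w w' := hEE w hw w' hw'
      rcases hx with rfl | rfl <;> rcases hy with rfl | rfl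
      · exact c3.eq
      · exact (c1.symm.mul_right c3).eq
      · exact (c2.mul_left c3).eq
      · exact (((Commute.refl v).mul_right c2).mul_left (c1.symm.mul_right c3)).eq
    have hsq : ∀ x : T, x * x = 1 ∨ x * x = v * v := by
      intro x
      obtain ⟨w, hw, hx⟩ := hdec x
      rcases hx with rfl | rfl
      · left; exact C.sq_E hw
      · right
        calc v * w * (v * w) = v * (w * v) * w := by group
          _ = v * v * (w * w) := by rw [← hvE w hw]; group
          _ = v * v := by rw [C.sq_E hw, mul_one]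
    have hz : ∀ α : MulAut T, α (v * v) = v * v := by
      intro α
      have h1 : α (v * v) = α v * α v := map_mul _ _ _
      rcases hsq (α v) with h2 | h2
      · exfalso
        rw [← h1] at h2
        exact C.v2 (α.injective (h2.trans (map_one α).symm))
      · rw [h1, h2]
    have h1 := hN.lz (v * v) C.v4 C.zc (fun α _ => hz α)
    have h4 : commutator T = ⊥ := by
      rw [eq_bot_iff, commutator_eq_closure, Subgroup.closure_le]
      rintro _ ⟨x, y, rfl⟩
      rw [commutatorElement_def, hall x y]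
      simp
    rw [h4, Subgroup.mem_bot] at h1
    exact C.v2 h1
  · -- nonabelian
    have hvez : v * e * v⁻¹ = e * (v * v) := by
      rcases C.en v with h1 | h1
      · exact absurd (mul_inv_eq_iff_eq_mul.mp h1) hve
      · exact h1
    have hev : e * v * e⁻¹ = v⁻¹ := by
      have h1 : v * e = e * (v * v) * v := mul_inv_eq_iff_eq_mul.mp hvez
      have h2 : e⁻¹ * v * e = v * v * v := by
        rw [mul_assoc, h1]; group
      have h3 : v * v * v = v⁻¹ := by
        apply eq_inv_of_mul_eq_one_left
        have := C.v4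
        rwa [← mul_assoc] at this
      rw [C.ei] at h2 ⊢
      rw [h2, h3]
    have hidx : C.E.index = 2 := by
      have hn := C.E_normal
      rw [Subgroup.index_eq_two_iff]
      refine ⟨v⁻¹, fun b => ?_⟩
      by_cases hb : b ∈ C.E
      · right
        refine ⟨hb, fun h1 => C.v_notMem ?_⟩
        have h2 := (C.E.mul_mem_cancel_left hb).mp h1
        exact inv_mem_iff.mp h2
      · left
        refine ⟨?_, hb⟩
        rcases h b with h1 | h1
        · exact absurd h1 hb
        · exact hn.mem_comm h1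
    have hcard : Nat.card T = 2 ^ (2 + 1) := by
      rw [← C.E.card_mul_index, C.card_E, hidx]; norm_num
    have : Fact (Nat.Prime 2) := ⟨Nat.prime_two⟩
    refine Cfsg.Agent.TwoFusion.MaxClass.dihedral_or_qd_of_cyclic 2 (by norm_num) v ?_ hcard e ?_ ?_ ?_
    · apply orderOf_eq_prime_pow
      · rw [pow_one, pow_two]; exact C.v2
      · show v ^ 4 = 1
        have := C.v4
        rw [← pow_two, ← pow_two, ← pow_mul] at this
        exact this
    · exact orderOf_eq_prime (by rw [pow_two]; exact C.ee) C.e1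
    · intro h1
      obtain ⟨j, hj⟩ := Subgroup.mem_zpowers_iff.mp h1
      have h2 := C.te
      rw [← hj, map_zpow, C.fixv] at h2
      exact C.v2 (mul_eq_left.mp h2.symm)
    · intro k hk
      have h1 : e * v ^ k * e⁻¹ = (v ^ k)⁻¹ := by
        rw [← conj_zpow, hev, inv_zpow]
      rw [h1] at hk
      rw [two_mul, zpow_add]
      nth_rewrite 1 [← hk]
      group

end Cfsg.Agent.H21.FixFour
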