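import Mathlib

/-!
# Transfer of a central involution of a Sylow 2-subgroup

`mem_commutator`: let `A` be a perfect finite group, `T` a Sylow 2-subgroup and `e ∈ Z(T)` with `e² = 1`,
centralised by `N_A(T)`. Then `e ∈ T'` (every homomorphism from `T` to a commutative group kills `e`).
-/

set_option autoImplicit false

namespace Cfsg.Agent.H21.LemZ

open MulAction

section prod

/-- invariant functions with values of order at most two: only the fixed points count -/
theorem prod_eq_pow {P Ω B : Type*} [Group P] [MulAction P Ω] [Fintype Ω] [CommGroup B] (hP : IsPGroup 2 P)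
    (f : Ω → B) (hf : ∀ (t : P) (ω : Ω), f (t • ω) = f ω) (b₀ : B) (hsq : ∀ ω, f ω * f ω = 1)
    (hfix : ∀ ω, ω ∈ fixedPoints P Ω → f ω = b₀) (hb₀ : b₀ * b₀ = 1) :
    ∏ ω, f ω = b₀ ^ (Nat.card (fixedPoints P Ω)) := by
  classical
  have h2 : Fact (Nat.Prime 2) := ⟨Nat.prime_two⟩
  rw [Finset.prod_comp (fun b : B => b) f]
  have key : ∀ b ∈ Finset.univ.image f, b ^ (Finset.univ.filter (fun a => f a = b)).card =
      if b = b₀ then b₀ ^ (Nat.card (fixedPoints P Ω)) else 1 := by
    intro b hb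
    obtain ⟨ω₀, -, hω₀⟩ := Finset.mem_image.mp hb
    have hbb : b * b = 1 := by rw [← hω₀]; exact hsq ω₀
    let S : SubMulAction P Ω := { carrier := {ω | f ω = b}, smul_mem' := fun t ω hω => (hf t ω).trans hω }
    have hcS : Nat.card S = (Finset.univ.filter (fun a => f a = b)).card := by
      rw [← Fintype.card_subtype, ← Nat.card_eq_fintype_card]
      rfl
    have hmod := hP.card_modEq_card_fixedPoints S
    rw [hcS] at hmod
    -- parity
    have hpow : ∀ m n : ℕ, m ≡ n [MOD 2] → ∀ c : B, c * c = 1 → c ^ m = c ^ n := by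
      intro m n hmn c hc
      have h1 : orderOf c ∣ 2 := orderOf_dvd_of_pow_eq_one (by rw [pow_two, hc])
      exact pow_eq_pow_iff_modEq.mpr (hmn.of_dvd h1)
    by_cases hbb₀ : b = b₀
    · rw [if_pos hbb₀, hbb₀]
      rw [hbb₀] at hmod
      rw [hpow _ _ hmod b₀ hb₀]
      congr 1
      refine Nat.card_congr
        { toFun := fun ω => ⟨ω.1.1, fun t => congrArg Subtype.val (ω.2 t)⟩
          invFun := fun ω => ⟨⟨ω.1, (hfix ω.1 ω.2).trans hbb₀.symm⟩, fun t => Subtype.ext (ω.2 t)⟩
          left_inv := fun _ => rfl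
          right_inv := fun _ => rfl }
    · rw [if_neg hbb₀]
      have h0 : Nat.card (fixedPoints P S) = 0 := by
        rw [Nat.card_eq_zero]
        left
        refine ⟨fun ω => hbb₀ ?_⟩
        rw [← hfix ω.1.1 (fun t => congrArg Subtype.val (ω.2 t))]
        exact ω.1.2.symm
      rw [h0] at hmod
      rw [hpow _ _ hmod b hbb, pow_zero]
  rw [Finset.prod_congr rfl key, Finset.prod_ite_eq']
  split_ifs with h
  · rfl
  · -- `b₀` is not a value, so there are no fixed points
    have h0 : Nat.card (fixedPoints P Ω) = 0 := by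
      rw [Nat.card_eq_zero]
      left
      refine ⟨fun ω => h ?_⟩
      exact Finset.mem_image.mpr ⟨ω.1, Finset.mem_univ _, hfix ω.1 ω.2⟩
    rw [h0, pow_zero]

end prod

variable {A : Type*} [Group A] [Finite A] {B : Type*} [CommGroup B]

/-- the transfer of an element `e`, `e² = 1`: product over the fixed cosets -/
theorem transfer_eq {T : Subgroup A} (φ : T →* B) {e : A} (hee : e * e = 1) [Fintype (A ⧸ T)]
    (Ψ : A → B) (hΨ : ∀ (g : A) (h : g⁻¹ * e * g ∈ T), Ψ g = φ ⟨g⁻¹ * e * g, h⟩) [DecidableEq (A ⧸ T)] :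
    MonoidHom.transfer φ e = ∏ q ∈ Finset.univ.filter (fun q : A ⧸ T => e • q = q), Ψ q.out := by
  classical
  have hfin : Finite (Quotient (orbitRel (Subgroup.zpowers e) (A ⧸ T))) := inferInstance
  have hft : Fintype (Quotient (orbitRel (Subgroup.zpowers e) (A ⧸ T))) := Fintype.ofFinite _
  rw [MonoidHom.transfer_eq_prod_quotient_orbitRel_zpowers_quot φ e]
  have hper : ∀ q : A ⧸ T, Function.minimalPeriod (e • ·) q ∣ 2 := by
    intro q
    apply Function.IsPeriodicPt.minimalPeriod_dvd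
    show e • (e • q) = q
    rw [smul_smul, hee, one_smul]
  have h1 : ∀ o : Quotient (orbitRel (Subgroup.zpowers e) (A ⧸ T)),
      φ ⟨o.out.out⁻¹ * e ^ Function.minimalPeriod (e • ·) o.out * o.out.out,
        QuotientGroup.out_conj_pow_minimalPeriod_mem T e o.out⟩ =
      if e • o.out = o.out then Ψ o.out.out else 1 := by
    intro o
    split_ifs with h
    · have hm : Function.minimalPeriod (e • ·) o.out = 1 :=
        Function.minimalPeriod_eq_one_iff_isFixedPt.mpr h
      have h2 := QuotientGroup.out_conj_pow_minimalPeriod_mem T e o.out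
      rw [hm, pow_one] at h2
      rw [hΨ _ h2]
      congr 1
      apply Subtype.ext
      show o.out.out⁻¹ * e ^ Function.minimalPeriod (e • ·) o.out * o.out.out = o.out.out⁻¹ * e * o.out.out
      rw [hm, pow_one]
    · have hm : Function.minimalPeriod (e • ·) o.out = 2 := by
        rcases (Nat.dvd_prime Nat.prime_two).mp (hper o.out) with h3 | h3
        · exact absurd (Function.minimalPeriod_eq_one_iff_isFixedPt.mp h3) h
        · exact h3
      rw [← map_one φ]
      congr 1
      apply Subtype.ext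
      show o.out.out⁻¹ * e ^ Function.minimalPeriod (e • ·) o.out * o.out.out = 1
      rw [hm, pow_two, hee, mul_one, inv_mul_cancel]
  rw [Finset.prod_congr rfl (fun o _ => h1 o), ← Finset.prod_filter]
  refine Finset.prod_bij (fun o _ => o.out) ?_ ?_ ?_ ?_
  · intro o ho
    simp only [Finset.mem_filter, Finset.mem_univ, true_and] at ho ⊢
    exact ho
  · intro o _ o' _ h
    rw [← Quotient.out_eq o, ← Quotient.out_eq o', h]
  · intro q hq
    simp only [Finset.mem_filter, Finset.mem_univ, true_and] at hq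
    have h2 : (Quotient.mk (orbitRel (Subgroup.zpowers e) (A ⧸ T)) q).out = q := by
      have h3 : (orbitRel (Subgroup.zpowers e) (A ⧸ T)).r
          (Quotient.mk (orbitRel (Subgroup.zpowers e) (A ⧸ T)) q).out q := Quotient.mk_out q
      obtain ⟨⟨g, hg⟩, hgq⟩ := h3
      have h4 : g • q = q := by
        have h5 : Subgroup.zpowers e ≤ stabilizer A q := Subgroup.zpowers_le.mpr hq
        exact h5 hg
      rw [← hgq]
      exact h4
    refine ⟨Quotient.mk _ q, ?_, h2⟩
    simp only [Finset.mem_filter, Finset.mem_univ, true_and, h2]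
    exact hq
  · intro o _
    rfl

/-- **Lemma Z**, for homomorphisms -/
theorem map_eq_one [Group.IsPerfect A] (T : Sylow 2 A) (φ : (T : Subgroup A) →* B) (e : A)
    (he : e ∈ (T : Subgroup A)) (hee : e * e = 1) (hc : ∀ t ∈ (T : Subgroup A), t * e = e * t)
    (hn : ∀ n ∈ Subgroup.normalizer ((T : Subgroup A) : Set A), n * e = e * n) : φ ⟨e, he⟩ = 1 := by
  classical
  have h2p : Fact (Nat.Prime 2) := ⟨Nat.prime_two⟩
  have hft : Fintype (A ⧸ (T : Subgroup A)) := Fintype.ofFinite _
  let Ψ : A → B := fun g => if h : g⁻¹ * e * g ∈ (T : Subgroup A) then φ ⟨g⁻¹ * e * g, h⟩ else 1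
  have hΨ : ∀ (g : A) (h : g⁻¹ * e * g ∈ (T : Subgroup A)), Ψ g = φ ⟨g⁻¹ * e * g, h⟩ := by
    intro g h
    simp only [Ψ, dif_pos h]
  have htr := transfer_eq φ hee Ψ hΨ
  have hone : MonoidHom.transfer φ e = 1 := by
    have h1 : e ∈ commutator A := Group.IsPerfect.mem_commutator
    exact (Abelianization.commutator_subset_ker (MonoidHom.transfer φ)) h1
  rw [hone] at htr
  -- the set of fixed cosets
  let F : SubMulAction (T : Subgroup A) (A ⧸ (T : Subgroup A)) :=
    { carrier := {q | e • q = q}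
      smul_mem' := by
        intro t q hq
        show e • (t : A) • q = (t : A) • q
        rw [smul_smul, ← hc t t.2, ← smul_smul]
        rw [show e • q = q from hq] }
  have hmem : ∀ q : A ⧸ (T : Subgroup A), e • q = q → q.out⁻¹ * e * q.out ∈ (T : Subgroup A) := by
    intro q hq
    have h1 : e • ((q.out : A) : A ⧸ (T : Subgroup A)) = ((q.out : A) : A ⧸ (T : Subgroup A)) := by
      rw [QuotientGroup.out_eq']; exact hq
    have h2 : ((e * q.out : A) : A ⧸ (T : Subgroup A)) = ((q.out : A) : A ⧸ (T : Subgroup A)) := h1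
    have h3 := QuotientGroup.eq.mp h2.symm
    rw [← mul_assoc] at h3
    exact h3
  have hF : Fintype F := Fintype.ofFinite _
  have hprod : ∏ q ∈ Finset.univ.filter (fun q : A ⧸ (T : Subgroup A) => e • q = q), Ψ q.out =
      ∏ q : F, Ψ (q : A ⧸ (T : Subgroup A)).out := by
    refine @Finset.prod_subtype (A ⧸ (T : Subgroup A)) B _ (fun q => q ∈ F) hF _ ?_
      (fun q : A ⧸ (T : Subgroup A) => Ψ q.out)
    intro q
    simp only [Finset.mem_filter, Finset.mem_univ, true_and]
    rfl
  rw [hprod] at htr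
  -- apply the fixed point lemma
  have hconj : ∀ (g s : A) (hs : s ∈ (T : Subgroup A)) (h : g⁻¹ * e * g ∈ (T : Subgroup A)),
      Ψ (g * s) = Ψ g := by
    intro g s hs h
    have h1 : (g * s)⁻¹ * e * (g * s) = s⁻¹ * (g⁻¹ * e * g) * s := by group
    have h2 : (g * s)⁻¹ * e * (g * s) ∈ (T : Subgroup A) := by
      rw [h1]
      exact (T : Subgroup A).mul_mem ((T : Subgroup A).mul_mem ((T : Subgroup A).inv_mem hs) h) hs
    rw [hΨ _ h2, hΨ _ h]
    have h3 : (⟨(g * s)⁻¹ * e * (g * s), h2⟩ : (T : Subgroup A)) =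
        (⟨s, hs⟩ : (T : Subgroup A))⁻¹ * ⟨g⁻¹ * e * g, h⟩ * ⟨s, hs⟩ := Subtype.ext h1
    rw [h3, map_mul, map_mul, map_inv, mul_comm, mul_inv_cancel_left]
  have hinv : ∀ (t : (T : Subgroup A)) (q : F), Ψ ((t • q : F) : A ⧸ (T : Subgroup A)).out =
      Ψ (q : A ⧸ (T : Subgroup A)).out := by
    intro t q
    have hq := hmem q q.2
    -- `(t • q).out = t * q.out * s`
    have h1 : (((t : A) * (q : A ⧸ (T : Subgroup A)).out : A) : A ⧸ (T : Subgroup A)) =
        ((((t • q : F) : A ⧸ (T : Subgroup A)).out : A) : A ⧸ (T : Subgroup A)) := by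
      rw [QuotientGroup.out_eq']
      show (t : A) • (((q : A ⧸ (T : Subgroup A)).out : A) : A ⧸ (T : Subgroup A)) = (t : A) • (q : A ⧸ (T : Subgroup A))
      rw [QuotientGroup.out_eq']
    have h2 := QuotientGroup.eq.mp h1
    set s := ((t : A) * (q : A ⧸ (T : Subgroup A)).out)⁻¹ * ((t • q : F) : A ⧸ (T : Subgroup A)).out with hs
    have h3 : ((t • q : F) : A ⧸ (T : Subgroup A)).out = ((t : A) * (q : A ⧸ (T : Subgroup A)).out) * s := by
      rw [hs]; group
    have h4 : ((t : A) * (q : A ⧸ (T : Subgroup A)).out)⁻¹ * e * ((t : A) * (q : A ⧸ (T : Subgroup A)).out) =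
        (q : A ⧸ (T : Subgroup A)).out⁻¹ * e * (q : A ⧸ (T : Subgroup A)).out := by
      have h5 : (t : A)⁻¹ * e * t = e := by
        rw [mul_assoc, ← hc t t.2]; group
      calc ((t : A) * (q : A ⧸ (T : Subgroup A)).out)⁻¹ * e * ((t : A) * (q : A ⧸ (T : Subgroup A)).out)
          = (q : A ⧸ (T : Subgroup A)).out⁻¹ * ((t : A)⁻¹ * e * t) * (q : A ⧸ (T : Subgroup A)).out := by group
        _ = _ := by rw [h5]
    rw [h3, hconj _ s h2 (by rw [h4]; exact hq), hΨ _ (by rw [h4]; exact hq), hΨ _ hq]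
    congr 1
    exact Subtype.ext h4
  have hb₀ : φ ⟨e, he⟩ * φ ⟨e, he⟩ = 1 := by
    rw [← map_mul, ← map_one φ]
    congr 1
    exact Subtype.ext hee
  have hmain := prod_eq_pow T.isPGroup' (fun q : F => Ψ (q : A ⧸ (T : Subgroup A)).out) hinv (φ ⟨e, he⟩) ?_ ?_ hb₀
  rotate_left
  · intro q
    have hq := hmem q q.2
    show Ψ (q : A ⧸ (T : Subgroup A)).out * Ψ (q : A ⧸ (T : Subgroup A)).out = 1
    rw [hΨ _ hq, ← map_mul, ← map_one φ]
    congr 1
    apply Subtype.ext
    show ((q : A ⧸ (T : Subgroup A)).out⁻¹ * e * (q : A ⧸ (T : Subgroup A)).out) *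
      ((q : A ⧸ (T : Subgroup A)).out⁻¹ * e * (q : A ⧸ (T : Subgroup A)).out) = 1
    calc ((q : A ⧸ (T : Subgroup A)).out⁻¹ * e * (q : A ⧸ (T : Subgroup A)).out) *
      ((q : A ⧸ (T : Subgroup A)).out⁻¹ * e * (q : A ⧸ (T : Subgroup A)).out)
        = (q : A ⧸ (T : Subgroup A)).out⁻¹ * (e * e) * (q : A ⧸ (T : Subgroup A)).out := by group
      _ = 1 := by rw [hee]; group
  · intro q hq
    have hq' : ((q : A ⧸ (T : Subgroup A)).out : A ⧸ (T : Subgroup A)) ∈
        fixedPoints (T : Subgroup A) (A ⧸ (T : Subgroup A)) := by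
      rw [QuotientGroup.out_eq']
      intro t
      exact congrArg Subtype.val (hq t)
    have h1 : (q : A ⧸ (T : Subgroup A)).out ∈ Subgroup.normalizer ((T : Subgroup A) : Set A) :=
      (Sylow.mem_fixedPoints_mul_left_cosets_iff_mem_normalizer (H := (T : Subgroup A))).mp hq'
    have hq2 := hmem q q.2
    show Ψ (q : A ⧸ (T : Subgroup A)).out = φ ⟨e, he⟩
    rw [hΨ _ hq2]
    congr 1
    apply Subtype.ext
    show (q : A ⧸ (T : Subgroup A)).out⁻¹ * e * (q : A ⧸ (T : Subgroup A)).out = e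
    rw [mul_assoc, ← hn _ h1]
    group
  rw [hmain] at htr
  -- the number of fixed points is odd
  have hcard : Nat.card (fixedPoints (T : Subgroup A) F) =
      Nat.card (fixedPoints (T : Subgroup A) (A ⧸ (T : Subgroup A))) := by
    refine Nat.card_congr
      { toFun := fun q => ⟨q.1.1, fun t => congrArg Subtype.val (q.2 t)⟩
        invFun := fun q => ⟨⟨q.1, ?_⟩, fun t => Subtype.ext (q.2 t)⟩
        left_inv := fun _ => rfl
        right_inv := fun _ => rfl }
    exact q.2 ⟨e, he⟩
  have hodd : ¬ 2 ∣ Nat.card (fixedPoints (T : Subgroup A) F) := by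
    rw [hcard]
    have h1 := T.isPGroup'.card_modEq_card_fixedPoints (A ⧸ (T : Subgroup A))
    intro h2
    have h3 : ¬ 2 ∣ Nat.card (A ⧸ (T : Subgroup A)) := by
      rw [← Subgroup.index_eq_card]
      exact T.not_dvd_index
    apply h3
    exact (Nat.modEq_zero_iff_dvd.mp (h1.trans (Nat.modEq_zero_iff_dvd.mpr h2)))
  obtain ⟨m, hm⟩ : Odd (Nat.card (fixedPoints (T : Subgroup A) F)) := by
    rw [← Nat.not_even_iff_odd, even_iff_two_dvd]; exact hodd
  rw [hm, pow_add, pow_mul, pow_two, hb₀, one_pow, one_mul, pow_one] at htr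
  exact htr.symm

/-- **Lemma Z** -/
theorem mem_commutator [Group.IsPerfect A] (T : Sylow 2 A) (e : A)
    (he : e ∈ (T : Subgroup A)) (hee : e * e = 1) (hc : ∀ t ∈ (T : Subgroup A), t * e = e * t)
    (hn : ∀ n ∈ Subgroup.normalizer ((T : Subgroup A) : Set A), n * e = e * n) :
    (⟨e, he⟩ : (T : Subgroup A)) ∈ commutator (T : Subgroup A) := by
  have h := map_eq_one T (Abelianization.of (G := (T : Subgroup A))) e he hee hc hn
  rwa [← MonoidHom.mem_ker, Abelianization.ker_of] at h

end Cfsg.Agent.H21.LemZ
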