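import Mathlib
import Cfsg.Agent.H21.FixFour
import Cfsg.Agent.H21.LemZ

/-!
# The automorphisms of a Sylow 2-subgroup `S` of a perfect group induced by its normalizer

`lz`, `lz2` : the transfer conditions of `H21.FixFour`
-/

set_option autoImplicit false

namespace Cfsg.Agent.H21.FixAct

open Cfsg.Agent.H21.FixFour

variable {A : Type*} [Group A] [Finite A]

/-- automorphisms induced by the normalizer -/
def NN (S : Sylow 2 A) : Set (MulAut (S : Subgroup A)) :=
  {α | ∃ n ∈ Subgroup.normalizer ((S : Subgroup A) : Set A), ∀ x : (S : Subgroup A),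
    ((α x : (S : Subgroup A)) : A) = n * x * n⁻¹}

theorem exists_aut (S : Sylow 2 A) {n : A} (hn : n ∈ Subgroup.normalizer ((S : Subgroup A) : Set A)) :
    ∃ α ∈ NN S, ∀ x : (S : Subgroup A), ((α x : (S : Subgroup A)) : A) = n * x * n⁻¹ :=
  ⟨(S : Subgroup A).normalizerMonoidHom ⟨n, hn⟩, ⟨n, hn, fun _ => rfl⟩, fun _ => rfl⟩

theorem lz [Group.IsPerfect A] (S : Sylow 2 A) : LZ (NN S) := by
  have h2p : Fact (Nat.Prime 2) := ⟨Nat.prime_two⟩
  constructor
  · intro x hxx hxc hxα
    refine Cfsg.Agent.H21.LemZ.mem_commutator S (x : A) x.2 (congrArg Subtype.val hxx) ?_ ?_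
    · intro t ht
      exact congrArg Subtype.val (hxc ⟨t, ht⟩)
    · intro n hn
      obtain ⟨α, hα, hα2⟩ := exists_aut S hn
      have h1 := hα2 x
      rw [hxα α hα] at h1
      exact (mul_inv_eq_iff_eq_mul.mp h1.symm)
  · rintro α ⟨n, hn, hα⟩
    set N := Subgroup.normalizer ((S : Subgroup A) : Set A) with hN
    have hSN : (S : Subgroup A) ≤ N := Subgroup.le_normalizer
    have hnorm : ((S : Subgroup A).subgroupOf N).Normal := Subgroup.normal_in_normalizer
    refine ⟨((S : Subgroup A).subgroupOf N).index, ?_, ?_⟩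
    · rw [← Nat.not_even_iff_odd, even_iff_two_dvd]
      intro h
      exact S.not_dvd_index (h.trans (Subgroup.relIndex_dvd_index_of_le hSN))
    · have h1 := Subgroup.pow_index_mem ((S : Subgroup A).subgroupOf N) ⟨n, hn⟩
      refine ⟨⟨n ^ ((S : Subgroup A).subgroupOf N).index, Subgroup.mem_subgroupOf.mp h1⟩, ?_⟩
      intro x
      apply Subtype.ext
      have key : ∀ j : ℕ, (((α ^ j) x : (S : Subgroup A)) : A) = n ^ j * x * (n ^ j)⁻¹ := by
        intro j
        induction j with
        | zero => simp
        | succ j ih =>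
          rw [pow_succ']
          show ((α ((α ^ j) x) : (S : Subgroup A)) : A) = _
          rw [hα, ih, pow_succ']
          group
      rw [key]
      rfl

theorem lz2 [Group.IsPerfect A] (S : Sylow 2 A) (z : (S : Subgroup A)) (hzz : z * z = 1)
    (hz : ∀ a : A, a * z = z * a) : LZ2 (NN S) z := by
  classical
  have h2p : Fact (Nat.Prime 2) := ⟨Nat.prime_two⟩
  intro x hxx hxt hxα
  set Z : Subgroup A := Subgroup.zpowers (z : A) with hZ
  have hzz' : (z : A) * z = 1 := congrArg Subtype.val hzz
  have hZm : ∀ a ∈ Z, a = 1 ∨ a = z := by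
    intro a ha
    obtain ⟨i, rfl⟩ := Subgroup.mem_zpowers_iff.mp ha
    exact zpow_z hzz' i
  have hzZ : (z : A) ∈ Z := Subgroup.mem_zpowers _
  have hZn : Z.Normal := by
    constructor
    intro a ha g
    rcases hZm a ha with h | h <;> rw [h]
    · simp
    · rw [hz g]; simpa using hzZ
  let q : A →* A ⧸ Z := QuotientGroup.mk' Z
  have hq : Function.Surjective q := QuotientGroup.mk'_surjective Z
  have hperf : Group.IsPerfect (A ⧸ Z) := Group.IsPerfect.ofSurjective hq
  let S' : Sylow 2 (A ⧸ Z) := S.mapSurjective hq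
  have hS' : (S' : Subgroup (A ⧸ Z)) = (S : Subgroup A).map q := rfl
  have hxS' : q x ∈ (S' : Subgroup (A ⧸ Z)) := ⟨x, x.2, rfl⟩
  have hZS : Z ≤ (S : Subgroup A) := Subgroup.zpowers_le.mpr z.2
  have hker : q.ker = Z := QuotientGroup.ker_mk' Z
  have hcomap : (S' : Subgroup (A ⧸ Z)).comap q = (S : Subgroup A) := by
    rw [hS', Subgroup.comap_map_eq, hker, sup_eq_left.mpr hZS]
  have hqeq : ∀ a b : A, (a = b ∨ a = b * z) → q a = q b := by
    intro a b h
    apply QuotientGroup.eq.mpr
    rcases h with rfl | rfl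
    · simp
    · rw [mul_inv_rev, mul_assoc, inv_mul_cancel, mul_one]
      exact Z.inv_mem hzZ
  have hmem := Cfsg.Agent.H21.LemZ.mem_commutator S' (q x) hxS' (by
      rw [← map_mul, ← map_one q]
      apply hqeq
      rcases hxx with h | h
      · left; exact congrArg Subtype.val h
      · right; rw [one_mul]; exact congrArg Subtype.val h) (by
      rintro t ⟨s, hs, rfl⟩
      have h1 := hxt ⟨s, hs⟩
      have h2 : q (s * x * s⁻¹) = q x := by
        apply hqeq
        rcases h1 with h | h
        · left; exact congrArg Subtype.val h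
        · right; exact congrArg Subtype.val h
      rw [map_mul, map_mul, map_inv] at h2
      exact mul_inv_eq_iff_eq_mul.mp h2) (by
      intro n hn
      obtain ⟨n, rfl⟩ := hq n
      have hn' : n ∈ Subgroup.normalizer ((S : Subgroup A) : Set A) := by
        rw [Subgroup.mem_normalizer_iff] at hn ⊢
        intro s
        have h1 := hn (q s)
        rw [← map_inv, ← map_mul, ← map_mul] at h1
        have h2 : ∀ a : A, a ∈ (S : Subgroup A) ↔ q a ∈ (S' : Subgroup (A ⧸ Z)) := by
          intro a
          rw [← hcomap]; rfl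
        rw [h2, h2]; exact h1
      obtain ⟨α, hα, hα2⟩ := exists_aut S hn'
      have h2 : q (n * x * n⁻¹) = q x := by
        apply hqeq
        rw [← hα2]
        rcases hxα α hα with h | h
        · left; exact congrArg Subtype.val h
        · right; exact congrArg Subtype.val h
      rw [map_mul, map_mul, map_inv] at h2
      exact mul_inv_eq_iff_eq_mul.mp h2)
  -- pull back
  let f : (S : Subgroup A) →* (S' : Subgroup (A ⧸ Z)) := q.subgroupMap (S : Subgroup A)
  have hf : Function.Surjective f := MonoidHom.subgroupMap_surjective _ _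
  have h1 : commutator (S' : Subgroup (A ⧸ Z)) = (commutator (S : Subgroup A)).map f := by
    rw [commutator_def, commutator_def, Subgroup.map_commutator, ← MonoidHom.range_eq_map,
      MonoidHom.range_eq_top.mpr hf]
  rw [h1] at hmem
  obtain ⟨s, hs, hsx⟩ := hmem
  refine ⟨s, hs, ?_⟩
  have h2 : q s = q x := congrArg Subtype.val hsx
  have h3 := QuotientGroup.eq.mp h2
  rcases hZm _ h3 with h | h
  · left
    exact Subtype.ext (inv_mul_eq_one.mp h).symm
  · right
    exact Subtype.ext (inv_mul_eq_iff_eq_mul.mp h)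

end Cfsg.Agent.H21.FixAct
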