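import Mathlib
import Cfsg.Prelude.Def_CaseTheorems
import Cfsg.Agent.H21.CycFix
import Cfsg.Agent.Cit.FourFix
import Cfsg.Agent.OddOrderLocal.RankQuot
import Cfsg.Agent.CpQuot.Congr

/-!
# Groups without four-subgroups; automorphisms whose fixed points contain no four-group

* `NF H` : `H` has no four-subgroup (`nf_iff` : `PRankLE 2 1 H`)
* `nf_fix_quot` : the fixed points modulo a normal subgroup of odd order
* `FF L` : every automorphism of order at most two centralises a four-group
* `o1_eq`, `false_of_rep` : `L ≅ PSL(2,q)`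
-/

set_option autoImplicit false

namespace Cfsg.Agent.H21.FourAct

open Subgroup
open Cfsg.Agent.GH.L2Aut Cfsg.Agent.GH.L2Aut.Rep

/-- `H` has no four-subgroup: commuting involutions are equal -/
def NF (H : Type*) [Group H] : Prop :=
  ∀ x y : H, x * x = 1 → y * y = 1 → x ≠ 1 → y ≠ 1 → x * y = y * x → x = y

theorem NF.of_prank {H : Type*} [Group H] [Finite H] (h : Cfsg.PRankLE 2 1 H) : NF H := by
  intro x y hx hy hx1 hy1 hc
  by_contra hxy
  have h1 := h (Subgroup.closure {x, y}) (by
      apply Subgroup.isMulCommutative_closure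
      rintro a (rfl | rfl) b (rfl | rfl)
      · rfl
      · exact hc
      · exact hc.symm
      · rfl) (by
      have hp := Cfsg.Agent.H21.CycFix.isPGroup_pair hx hy hc
      have hcomm : ∀ a ∈ ({x, y} : Set H), ∀ b ∈ ({x, y} : Set H), a * b = b * a := by
        rintro a (rfl | rfl) b (rfl | rfl)
        · rfl
        · exact hc
        · exact hc.symm
        · rfl
      have hcm := Subgroup.isMulCommutative_closure hcomm
      intro g hg
      induction hg using Subgroup.closure_induction with
      | mem a ha =>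
        rcases ha with rfl | rfl
        · rw [pow_two]; exact hx
        · rw [pow_two]; exact hy
      | one => simp
      | mul a b ha hb h1 h2 =>
        have h3 : a * b = b * a :=
          congrArg Subtype.val (hcm.is_comm.comm (⟨a, ha⟩ : Subgroup.closure ({x, y} : Set H)) ⟨b, hb⟩)
        rw [Commute.mul_pow h3, h1, h2, one_mul]
      | inv a ha h1 => rw [inv_pow, h1, inv_one])
  classical
  have hf : Fintype (Subgroup.closure ({x, y} : Set H)) := Fintype.ofFinite _
  have h2 : ({1, ⟨x, subset_closure (by simp)⟩, ⟨y, subset_closure (by simp)⟩} :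
      Finset (Subgroup.closure ({x, y} : Set H))).card ≤ Fintype.card (Subgroup.closure ({x, y} : Set H)) :=
    Finset.card_le_univ _
  rw [Finset.card_insert_of_notMem, Finset.card_insert_of_notMem, Finset.card_singleton,
    ← Nat.card_eq_fintype_card] at h2
  · omega
  · simp only [Finset.mem_singleton, Subtype.mk.injEq]
    exact hxy
  · simp only [Finset.mem_insert, Finset.mem_singleton, not_or]
    exact ⟨fun h => hx1 (congrArg Subtype.val h).symm, fun h => hy1 (congrArg Subtype.val h).symm⟩

theorem NF.prank {H : Type*} [Group H] [Finite H] (h : NF H) : Cfsg.PRankLE 2 1 H := by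
  intro A hA hA2
  classical
  have hf : Fintype A := Fintype.ofFinite _
  by_contra hcon
  have hcard : 2 < Fintype.card A := by
    rw [← Nat.card_eq_fintype_card]
    simpa using hcon
  obtain ⟨a, b, c, hab, hac, hbc⟩ := Fintype.two_lt_card_iff.mp hcard
  have hsq : ∀ x : A, x * x = 1 := by
    intro x
    apply Subtype.ext
    have := hA2 x x.2
    rw [pow_two] at this
    exact this
  have key : ∀ x y : A, x ≠ 1 → y ≠ 1 → x = y := by
    intro x y hx hy
    apply Subtype.ext
    exact h x y (congrArg Subtype.val (hsq x)) (congrArg Subtype.val (hsq y))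
      (fun h => hx (Subtype.ext h)) (fun h => hy (Subtype.ext h))
      (congrArg Subtype.val (hA.is_comm.comm x y))
  by_cases ha : a = 1
  · subst ha
    exact hbc (key b c (Ne.symm hab) (Ne.symm hac))
  · by_cases hb : b = 1
    · subst hb
      exact hac (key a c ha (Ne.symm hbc))
    · exact hab (key a b ha hb)

theorem nf_iff {H : Type*} [Group H] [Finite H] : NF H ↔ Cfsg.PRankLE 2 1 H :=
  ⟨NF.prank, NF.of_prank⟩

theorem NF.of_injective {H K : Type*} [Group H] [Group K] (h : NF K) (f : H →* K)
    (hf : Function.Injective f) : NF H := by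
  intro x y hx hy hx1 hy1 hc
  apply hf
  exact h _ _ (by rw [← map_mul, hx, map_one]) (by rw [← map_mul, hy, map_one])
    (fun h => hx1 (hf (h.trans (map_one f).symm))) (fun h => hy1 (hf (h.trans (map_one f).symm)))
    (by rw [← map_mul, hc, map_mul])

theorem NF.of_surjective {H K : Type*} [Group H] [Finite H] [Group K] (h : NF H) (f : H →* K)
    (hf : Function.Surjective f) (hk : Odd (Nat.card f.ker)) : NF K := by
  have : Fact (Nat.Prime 2) := ⟨Nat.prime_two⟩
  have hK : Finite K := Finite.of_surjective f hf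
  have h1 := Cfsg.Agent.OddOrderLocal.RankQuot.pRankLE_quotient_of_not_dvd (p := 2) (k := 1) f.ker
    hk.not_two_dvd_nat h.prank
  exact NF.of_prank (Cfsg.Agent.CpQuot.Congr.prankLE_of (QuotientGroup.quotientKerEquivOfSurjective f hf) h1)

/-- an involution acting on a coset of odd size has a fixed point -/
theorem exists_fixed {A : Type*} [Group A] [Finite A] (N : Subgroup A) [N.Normal] (hN : Odd (Nat.card N))
    (α : MulAut A) (hα : α * α = 1) (hNα : ∀ n ∈ N, α n ∈ N) (x : A) (hx : x⁻¹ * α x ∈ N) :
    ∃ y : A, α y = y ∧ x⁻¹ * y ∈ N := by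
  classical
  have hαα : ∀ y, α (α y) = y := fun y => by
    have := congrArg (fun β : MulAut A => β y) hα
    simpa using this
  have hmem : ∀ y : {y : A // x⁻¹ * y ∈ N}, x⁻¹ * α y.1 ∈ N := by
    intro y
    have h1 : α x⁻¹ * α y ∈ N := by rw [← map_mul]; exact hNα _ y.2
    have h2 : x⁻¹ * α y.1 = (x⁻¹ * α x) * (α x⁻¹ * α y) := by
      rw [map_inv]; group
    rw [h2]
    exact N.mul_mem hx h1
  let f : Equiv.Perm {y : A // x⁻¹ * y ∈ N} :=
    { toFun := fun y => ⟨α y, hmem y⟩
      invFun := fun y => ⟨α y, hmem y⟩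
      left_inv := fun y => Subtype.ext (hαα y)
      right_inv := fun y => Subtype.ext (hαα y) }
  have hfin : Fintype {y : A // x⁻¹ * y ∈ N} := Fintype.ofFinite _
  have hf : f ^ 2 ^ 1 = 1 := by
    rw [pow_one, pow_two]
    exact Equiv.ext fun y => Subtype.ext (hαα y)
  have h2p : Fact (Nat.Prime 2) := ⟨Nat.prime_two⟩
  have h2 : Fintype.card {y : A // x⁻¹ * y ∈ N} = Nat.card N := by
    rw [← Nat.card_eq_fintype_card]
    exact Nat.card_congr
      { toFun := fun y => ⟨x⁻¹ * y, y.2⟩
        invFun := fun n => ⟨x * n, by rw [inv_mul_cancel_left]; exact n.2⟩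
        left_inv := fun y => Subtype.ext (mul_inv_cancel_left x y.1)
        right_inv := fun n => Subtype.ext (inv_mul_cancel_left x n.1) }
  obtain ⟨y, hy⟩ := Equiv.Perm.exists_fixed_point_of_prime (p := 2) (by rw [h2]; exact hN.not_two_dvd_nat) hf
  exact ⟨y, congrArg Subtype.val hy, y.2⟩

/-- fixed points modulo a normal subgroup of odd order -/
theorem nf_fix_quot {A : Type*} [Group A] [Finite A] (N : Subgroup A) [N.Normal] (hN : Odd (Nat.card N))
    (α : MulAut A) (hα : α * α = 1) (hNα : ∀ n ∈ N, α n ∈ N) (β : MulAut (A ⧸ N))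
    (hβ : ∀ x : A, β (x : A ⧸ N) = (α x : A ⧸ N)) (h : NF (fixSub α)) : NF (fixSub β) := by
  let f : fixSub α →* fixSub β :=
    { toFun := fun x => ⟨((x : A) : A ⧸ N), by
        show β ((x : A) : A ⧸ N) = ((x : A) : A ⧸ N)
        rw [hβ]
        exact congrArg _ (show α x = x from x.2)⟩
      map_one' := rfl
      map_mul' := fun _ _ => rfl }
  have hf : Function.Surjective f := by
    rintro ⟨x, hx⟩
    obtain ⟨x, rfl⟩ := QuotientGroup.mk_surjective x
    have hx' : β (x : A ⧸ N) = (x : A ⧸ N) := hx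
    rw [hβ] at hx'
    obtain ⟨y, hy, hy2⟩ := exists_fixed N hN α hα hNα x (QuotientGroup.eq.mp hx'.symm)
    exact ⟨⟨y, hy⟩, Subtype.ext (QuotientGroup.eq.mpr hy2).symm⟩
  refine h.of_surjective f hf ?_
  have hinj : Nat.card f.ker ∣ Nat.card N := by
    let g : f.ker →* N :=
      { toFun := fun x => ⟨((x : fixSub α) : A), by
          have h1 : f x = 1 := x.2
          have h2 : (((x : fixSub α) : A) : A ⧸ N) = 1 := congrArg Subtype.val h1
          exact (QuotientGroup.eq_one_iff _).mp h2⟩
        map_one' := rfl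
        map_mul' := fun _ _ => rfl }
    refine Subgroup.card_dvd_of_injective g ?_
    intro x y hxy
    apply Subtype.ext
    apply Subtype.ext
    exact congrArg (fun z : N => (z : A)) hxy
  exact hN.of_dvd_nat hinj

/-- every automorphism of order at most two centralises a four-group -/
def FF (L : Type*) [Group L] : Prop := ∀ α : MulAut L, α * α = 1 → ¬ NF (fixSub α)

/-- a non-cyclic simple group has a four-subgroup -/
theorem exists_four {L : Type*} [Group L] [Finite L] [IsSimpleGroup L] (hL : ¬ IsCyclic L) :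
    ∃ a b : L, a * a = 1 ∧ b * b = 1 ∧ a ≠ 1 ∧ b ≠ 1 ∧ a ≠ b ∧ a * b = b * a := by
  obtain ⟨E, hE⟩ := Cfsg.Agent.S0204.result (G := L) hL
  have hcard : Nat.card E = 4 := hE.card_four
  have hexp : Monoid.exponent E = 2 := hE.exponent_two
  have hnt : Nontrivial E := by
    have := Finite.one_lt_card_iff_nontrivial (α := E)
    rw [← this]; omega
  have hsq : ∀ x : E, x * x = 1 := by
    intro x
    rw [← pow_two, ← hexp]
    exact Monoid.pow_exponent_eq_one x
  obtain ⟨x, hx⟩ := exists_ne (1 : E)
  obtain ⟨y, hy⟩ : ∃ y : E, y ≠ 1 ∧ y ≠ x := by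
    by_contra hcon
    push Not at hcon
    classical
    have : Fintype E := Fintype.ofFinite E
    have h1 : (Finset.univ : Finset E) ⊆ {1, x} := by
      intro a _
      simp only [Finset.mem_insert, Finset.mem_singleton]
      by_cases ha : a = 1
      · exact Or.inl ha
      · exact Or.inr (hcon a ha)
    have h2 := Finset.card_le_card h1
    rw [Finset.card_univ, ← Nat.card_eq_fintype_card, hcard] at h2
    have h3 := Finset.card_le_two (a := (1 : E)) (b := x)
    omega
  have hcomm : (x : L) * y = y * x := by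
    have h1 := hsq (x * y)
    have hxi : x⁻¹ = x := inv_eq_of_mul_eq_one_left (hsq x)
    have hyi : y⁻¹ = y := inv_eq_of_mul_eq_one_left (hsq y)
    have h2 : x * y = y * x := by
      calc x * y = (x * y)⁻¹ := (inv_eq_of_mul_eq_one_left h1).symm
        _ = y⁻¹ * x⁻¹ := by group
        _ = y * x := by rw [hxi, hyi]
    exact congrArg Subtype.val h2
  exact ⟨x, y, congrArg Subtype.val (hsq x), congrArg Subtype.val (hsq y),
    fun h4 => hx (Subtype.ext h4), fun h4 => hy.1 (Subtype.ext h4), fun h4 => hy.2 (Subtype.ext h4).symm,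
    hcomm⟩

/-- inner automorphisms of order at most two of a non-cyclic simple group centralise a four-group -/
theorem not_inner {L : Type*} [Group L] [Finite L] [IsSimpleGroup L] (hL : ¬ IsCyclic L) {s : L}
    (hs : s * s = 1) : ¬ NF (fixSub (MulAut.conj s)) := by
  intro h
  obtain ⟨a, b, ha, hb, ha1, hb1, hab, hc⟩ := exists_four hL
  by_cases hs1 : s = 1
  · have hfix : ∀ x, x ∈ fixSub (MulAut.conj s) := by
      intro x
      show s * x * s⁻¹ = x
      rw [hs1]; group
    exact hab (congrArg Subtype.val (h ⟨a, hfix a⟩ ⟨b, hfix b⟩ (Subtype.ext ha) (Subtype.ext hb)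
      (fun h => ha1 (congrArg Subtype.val h)) (fun h => hb1 (congrArg Subtype.val h)) (Subtype.ext hc)))
  · obtain ⟨t, ht, ht1, hts, htc⟩ := Cfsg.Agent.Cit.exists_commuting_involution ha hb ha1 hb1 hab hc hs hs1
    have hsf : s ∈ fixSub (MulAut.conj s) := by
      show s * s * s⁻¹ = s
      group
    have htf : t ∈ fixSub (MulAut.conj s) := by
      show s * t * s⁻¹ = t
      rw [← htc]; group
    exact hts (congrArg Subtype.val (h ⟨t, htf⟩ ⟨s, hsf⟩ (Subtype.ext ht) (Subtype.ext hs)
      (fun h => ht1 (congrArg Subtype.val h)) (fun h => hs1 (congrArg Subtype.val h)) (Subtype.ext htc)))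

theorem ff_of_fourFix {L : Type*} [Group L] [Finite L] [IsSimpleGroup L] (hL : ¬ IsCyclic L)
    (h : Cfsg.Agent.Cit.FourFix L) : FF L := by
  intro α hα hnf
  by_cases hin : ∃ l, α = MulAut.conj l
  · obtain ⟨l, rfl⟩ := hin
    have hc : ∀ x : L, l * l * x = x * (l * l) := by
      intro x
      have h1 : MulAut.conj (l * l) x = x := by rw [map_mul, hα]; rfl
      rw [MulAut.conj_apply] at h1
      exact mul_inv_eq_iff_eq_mul.mp h1
    have hl : l * l = 1 := by
      have hz : l * l ∈ Subgroup.center L := Subgroup.mem_center_iff.mpr fun x => (hc x).symm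
      rcases IsSimpleGroup.eq_bot_or_eq_top_of_normal (Subgroup.center L) inferInstance with h2 | h2
      · rw [h2, Subgroup.mem_bot] at hz
        exact hz
      · exfalso
        apply hL
        have hcom : ∀ x y : L, x * y = y * x := fun x y =>
          (Subgroup.mem_center_iff.mp (h2 ▸ Subgroup.mem_top y : y ∈ Subgroup.center L)) x
        let _i : CommGroup L := { (inferInstance : Group L) with mul_comm := hcom }
        exact IsSimpleGroup.isCyclic
    exact not_inner hL hl hnf
  · push Not at hin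
    obtain ⟨a, b, ha, hb, ha1, hb1, hab, hc, hxa, hxb⟩ := h α hα hin
    exact hab (congrArg Subtype.val (hnf ⟨a, hxa⟩ ⟨b, hxb⟩ (Subtype.ext ha) (Subtype.ext hb)
      (fun h => ha1 (congrArg Subtype.val h)) (fun h => hb1 (congrArg Subtype.val h)) (Subtype.ext hc)))

/-- no automorphism of order at most two of `A₇` has fixed points without four-groups -/
theorem ff_seven {L : Type*} [Group L] [Finite L] (e : L ≃* alternatingGroup (Fin 7)) : FF L := by
  intro α h hcyc
  obtain ⟨ψ, hψ⟩ := Cfsg.Agent.StandardComponent.AltAut.exists_autHom 7 le_rfl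
  set α' : MulAut (alternatingGroup (Fin 7)) := MulAut.congr e α with hα'
  have hαα : α' * α' = 1 := by rw [hα', ← map_mul, h, map_one]
  have hσ : ψ α' * ψ α' = 1 := by rw [← map_mul, hαα, map_one]
  obtain ⟨x, y, hx, hy, hxx, hyy, hx1, hy1, hxy, hc, h1, h2⟩ :=
    Cfsg.Agent.H21.CycFix.perm_seven (ψ α') hσ
  have hfix : ∀ (x : Equiv.Perm (Fin 7)) (hx : x ∈ alternatingGroup (Fin 7)), ψ α' * x = x * ψ α' →
      α (e.symm ⟨x, hx⟩) = e.symm ⟨x, hx⟩ := by
    intro x hx h1
    have h3 : α' ⟨x, hx⟩ = ⟨x, hx⟩ := by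
      apply Subtype.ext
      rw [hψ]
      show ψ α' * x * (ψ α')⁻¹ = x
      rw [h1]; group
    have h4 : α' ⟨x, hx⟩ = e (α (e.symm ⟨x, hx⟩)) := rfl
    rw [h4] at h3
    apply e.injective
    rw [h3, MulEquiv.apply_symm_apply]
  have h3 : (⟨e.symm ⟨x, hx⟩, hfix x hx h1⟩ : fixSub α) = ⟨e.symm ⟨y, hy⟩, hfix y hy h2⟩ := by
    refine hcyc _ _ ?_ ?_ ?_ ?_ ?_
    · apply Subtype.ext
      show e.symm ⟨x, hx⟩ * e.symm ⟨x, hx⟩ = 1
      rw [← map_mul, ← map_one e.symm]
      congr 1
      exact Subtype.ext hxx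
    · apply Subtype.ext
      show e.symm ⟨y, hy⟩ * e.symm ⟨y, hy⟩ = 1
      rw [← map_mul, ← map_one e.symm]
      congr 1
      exact Subtype.ext hyy
    · intro h4
      have h5 : e.symm ⟨x, hx⟩ = 1 := congrArg Subtype.val h4
      rw [← map_one e.symm] at h5
      exact hx1 (congrArg Subtype.val (e.symm.injective h5))
    · intro h4
      have h5 : e.symm ⟨y, hy⟩ = 1 := congrArg Subtype.val h4
      rw [← map_one e.symm] at h5
      exact hy1 (congrArg Subtype.val (e.symm.injective h5))
    · apply Subtype.ext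
      show e.symm ⟨x, hx⟩ * e.symm ⟨y, hy⟩ = e.symm ⟨y, hy⟩ * e.symm ⟨x, hx⟩
      rw [← map_mul, ← map_mul]
      congr 1
      exact Subtype.ext hc
  have h4 : e.symm ⟨x, hx⟩ = e.symm ⟨y, hy⟩ := congrArg Subtype.val h3
  exact hxy (congrArg Subtype.val (e.symm.injective h4))

section psl

variable {F : Type*} [Field F] [Finite F] {L : Type*} [Group L] [Finite L] [IsSimpleGroup L]
variable (R : Cfsg.Agent.GH.L2Aut.Rep F L)

/-- an automorphism `α`, `α² = 1`, whose fixed points contain no four-group is of PGL type -/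
theorem o1_eq (hL : ¬ IsCyclic L) {α : MulAut L} (h : α * α = 1) (hcyc : NF (fixSub α)) :
    R.o1 α = -1 ∧ R.fld α = 1 := by
  have hf : R.fld α = 1 := by
    by_contra hf
    obtain ⟨a, b, y, hF, ha, hb, -⟩ := R.field_four (φ := α) (fun hP => hf (R.mem_PGL_iff_fld.mp hP)) h
    have h1 : (⟨a, ha⟩ : fixSub α) = ⟨b, hb⟩ :=
      hcyc _ _ (Subtype.ext hF.aa) (Subtype.ext hF.bb)
        (fun h => hF.a1 (congrArg Subtype.val h)) (fun h => hF.b1 (congrArg Subtype.val h))
        (Subtype.ext hF.comm)
    exact hF.ne (congrArg Subtype.val h1)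
  refine ⟨?_, hf⟩
  by_contra ho
  have ho1 : R.o1 α = 1 := (Int.units_eq_one_or _).resolve_right ho
  obtain ⟨s, hs⟩ := (R.mem_inn_iff).mpr ⟨hf, ho1⟩
  have hss : s * s = 1 := by
    have h1 : MulAut.conj (s * s) = 1 := by rw [map_mul, hs, h]
    have h2 : MulAut.conj (s * s) = MulAut.conj (1 : L) := by rw [h1, map_one]
    exact R.conj_injective h2
  rw [← hs] at hcyc
  exact not_inner hL hss hcyc

include R in
/-- a four-group cannot act on `PSL(2,q)` such that the fixed points of no involution contain a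
four-group -/
theorem false_of_rep (hL : ¬ IsCyclic L) {α β : MulAut L} (hα : α * α = 1)
    (hβ : β * β = 1) (hαβ : α * β = β * α)
    (hcα : NF (fixSub α)) (hcβ : NF (fixSub β)) (hcαβ : NF (fixSub (α * β))) : False := by
  have hsq : (α * β) * (α * β) = 1 := by
    calc (α * β) * (α * β) = α * (β * α) * β := by group
      _ = (α * α) * (β * β) := by rw [← hαβ]; group
      _ = 1 := by rw [hα, hβ, one_mul]
  have h1 := (o1_eq R hL hα hcα).1
  have h2 := (o1_eq R hL hβ hcβ).1
  have h3 := (o1_eq R hL hsq hcαβ).1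
  rw [map_mul, h1, h2] at h3
  exact absurd h3 (by decide)

end psl

end Cfsg.Agent.H21.FourAct
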