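import Mathlib
import Cfsg.Agent.Classification.NormalCyclic
import Cfsg.Agent.TwoFusion.MaxClass
import Cfsg.Agent.Transfer.PGroupNormal

/-!
# Normal subgroups `T` of a 2-group `P` all of whose abelian subgroups normal in `P` are cyclic

`trichotomy`: such a `T` has at most one involution or is dihedral or quasi-dihedral (relative version of
`Classification.NormalCyclic`).
-/

set_option autoImplicit false

namespace Cfsg.Agent.H21.RelMax

/-- in a cyclic group, elements of order two are equal -/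
theorem eq_of_isCyclic {P : Type*} [Group P] [Finite P] (hP : IsCyclic P) {x y : P}
    (hx : x * x = 1) (hy : y * y = 1) (hx1 : x ≠ 1) (hy1 : y ≠ 1) : x = y := by
  classical
  have : Fintype P := Fintype.ofFinite P
  have h1 := IsCyclic.card_pow_eq_one_le (α := P) (n := 2) (by norm_num)
  by_contra hxy
  have h2 : ({1, x, y} : Finset P) ⊆ Finset.univ.filter (fun a : P => a ^ 2 = 1) := by
    intro a ha
    simp only [Finset.mem_insert, Finset.mem_singleton] at ha
    simp only [Finset.mem_filter, Finset.mem_univ, true_and, pow_two]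
    rcases ha with rfl | rfl | rfl
    · simp
    · exact hx
    · exact hy
  have h3 := Finset.card_le_card h2
  rw [Finset.card_insert_of_notMem, Finset.card_insert_of_notMem, Finset.card_singleton] at h3
  · omega
  · simpa using hxy
  · simp only [Finset.mem_insert, Finset.mem_singleton, not_or]
    exact ⟨Ne.symm hx1, Ne.symm hy1⟩

variable {P : Type*} [Group P] [Finite P]

/-- Core configuration: `g ∈ T` acts on the cyclic normal subgroup `⟨a⟩ = C_T(a)` of order
`2^k`, `k ≥ 3`, as `a ↦ a * a^(2^(k-1))`. Then there is a noncyclic abelian subgroup of `T` normal in `P`. -/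
theorem exists_klein_of_modular (T : Subgroup P) (hT : T.Normal) (k : ℕ) (hk : 3 ≤ k) (a g : P)
    (haT : a ∈ T) (hgT : g ∈ T) (ha : orderOf a = 2 ^ k)
    (hnorm : (Subgroup.zpowers a).Normal)
    (hcen : ∀ x ∈ T, x * a = a * x → x ∈ Subgroup.zpowers a)
    (hg : g * a * g⁻¹ = a * a ^ (2 ^ (k - 1))) :
    ∃ W : Subgroup P, W ≤ T ∧ W.Normal ∧ IsMulCommutative W ∧ ¬ IsCyclic W := by
  set z := a ^ (2 ^ (k - 1)) with hz
  have hk1 : 2 ^ k = 2 * 2 ^ (k - 1) := by
    rw [← pow_succ']; congr 1; omega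
  have hk2 : 2 ^ (k - 1) = 2 * 2 ^ (k - 2) := by
    rw [← pow_succ']; congr 1; omega
  have hk3 : 2 ^ (k - 2) = 2 * 2 ^ (k - 3) := by
    rw [← pow_succ']; congr 1; omega
  have ha1 : a ^ (2 ^ k) = 1 := ha ▸ pow_orderOf_eq_one a
  have hz2 : z * z = 1 := by
    rw [hz, ← pow_add, ← two_mul, ← hk1, ha1]
  have hz1 : z ≠ 1 := by
    intro h
    have := orderOf_dvd_of_pow_eq_one h
    rw [ha] at this
    have h2 := Nat.le_of_dvd (by positivity) this
    have : 2 ^ (k - 1) < 2 ^ k := by rw [hk1]; have : 0 < 2 ^ (k - 1) := by positivity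
                                     omega
    omega
  -- powers of a conj
  have hodd : ∀ x : P, ∃ r : ℤ, Odd r ∧ x * a * x⁻¹ = a ^ r := by
    intro x
    obtain ⟨r, hr⟩ := Subgroup.mem_zpowers_iff.mp (hnorm.conj_mem a (Subgroup.mem_zpowers a) x)
    refine ⟨r, ?_, hr.symm⟩
    by_contra hne
    rw [Int.not_odd_iff_even] at hne
    obtain ⟨t, rfl⟩ := hne
    have h1 : (x * a * x⁻¹) ^ (2 ^ (k - 1)) = 1 := by
      rw [← hr, ← zpow_natCast, ← zpow_mul]
      have : (t + t) * ((2 ^ (k - 1) : ℕ) : ℤ) = ((2 ^ k : ℕ) : ℤ) * t := by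
        rw [hk1]; push_cast; ring
      rw [this, zpow_mul, zpow_natCast, ha1, one_zpow]
    rw [conj_pow] at h1
    have h2 : a ^ (2 ^ (k - 1)) = 1 := by
      have := congrArg (fun y => x⁻¹ * y * x) h1
      simpa [mul_assoc] using this
    exact hz1 h2
  have hzz : ∀ r : ℤ, Odd r → z ^ r = z := by
    rintro r ⟨t, rfl⟩
    rw [zpow_add, zpow_mul, zpow_one]
    have : z ^ (2 : ℤ) = 1 := by
      rw [zpow_two]; exact hz2
    rw [this, one_zpow, one_mul]
  have hzz0 : ∀ r : ℤ, Even r → z ^ r = 1 := by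
    rintro r ⟨t, rfl⟩
    rw [← two_mul, zpow_mul]
    have : z ^ (2 : ℤ) = 1 := by
      rw [zpow_two]; exact hz2
    rw [this, one_zpow]
  have hzcen : ∀ x : P, x * z * x⁻¹ = z := by
    intro x
    obtain ⟨r, hr, h⟩ := hodd x
    rw [hz, ← conj_pow, h, ← zpow_natCast, ← zpow_mul, mul_comm, zpow_mul, zpow_natCast, ← hz]
    exact hzz r hr
  have hzc : ∀ x : P, x * z = z * x := by
    intro x
    have := hzcen x
    exact mul_inv_eq_iff_eq_mul.mp this
  have haz : a * z = z * a := hzc a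
  -- elements acting like g
  have act : ∀ y : P, y * a * y⁻¹ = a * z → ∀ i : ℤ, y * a ^ i * y⁻¹ = a ^ i * z ^ i := by
    intro y hy i
    rw [← conj_zpow, hy, (show Commute a z from haz).mul_zpow]
  -- relation a^(2l) = z^l forces a^l in {1,z}
  have key : ∀ l : ℤ, a ^ (2 * l) * z ^ l = 1 → a ^ l = 1 ∨ a ^ l = z := by
    intro l hl
    have h1 : a ^ (2 * l + (2 ^ (k - 1) : ℕ) * l) = 1 := by
      rw [zpow_add, zpow_mul a ((2 ^ (k - 1) : ℕ) : ℤ) l, zpow_natCast, ← hz]
      exact hl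
    rw [← orderOf_dvd_iff_zpow_eq_one, ha] at h1
    -- 2^k ∣ 2 * l * (1 + 2^(k-2))
    have h2 : (2 * l + ((2 ^ (k - 1) : ℕ) : ℤ) * l) = 2 * (l * (1 + 2 * ((2 ^ (k - 3) : ℕ) : ℤ))) := by
      rw [hk2, hk3]; push_cast; ring
    rw [h2, hk1] at h1
    push_cast at h1
    have h3 : (2 ^ (k - 1) : ℤ) ∣ l * (1 + 2 * 2 ^ (k - 3)) := by
      exact (mul_dvd_mul_iff_left (by norm_num : (2 : ℤ) ≠ 0)).mp h1
    have h4 : IsCoprime (2 ^ (k - 1) : ℤ) (1 + 2 * 2 ^ (k - 3)) := by
      apply IsCoprime.pow_left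
      exact ⟨-(2 ^ (k - 3)), 1, by ring⟩
    obtain ⟨m, hm⟩ := h4.dvd_of_dvd_mul_right h3
    have h5 : a ^ l = z ^ m := by
      rw [hm, zpow_mul, hz]
      congr 1
      have : ((2 : ℤ) ^ (k - 1)) = ((2 ^ (k - 1) : ℕ) : ℤ) := by push_cast; rfl
      rw [this, zpow_natCast]
    rcases Int.even_or_odd m with he | ho
    · left; rw [h5, hzz0 m he]
    · right; rw [h5, hzz m ho]
  -- g² is a power of a
  have hg2 : (g * g) * a = a * (g * g) := by
    have h1 : g * a = a * z * g := by
      rw [← hg]; group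
    calc (g * g) * a = g * (g * a) := by group
      _ = g * (a * z * g) := by rw [h1]
      _ = (g * a) * z * g := by group
      _ = a * z * g * z * g := by rw [h1]
      _ = a * z * (g * z) * g := by group
      _ = a * z * (z * g) * g := by rw [hzc g]
      _ = a * (z * z) * (g * g) := by group
      _ = a * (g * g) := by rw [hz2, mul_one]
  obtain ⟨j, hj⟩ := Subgroup.mem_zpowers_iff.mp (hcen _ (T.mul_mem hgT hgT) hg2)
  -- z^j = 1
  have hzj : z ^ j = 1 := by
    have h1 := act g hg j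
    have h2 : g * a ^ j * g⁻¹ = a ^ j := by
      rw [hj]; group
    rw [h2] at h1
    have h3 : a ^ j * 1 = a ^ j * z ^ j := by rw [mul_one]; exact h1
    exact (mul_left_cancel h3).symm
  have hjeven : Even j := by
    by_contra hne
    rw [Int.not_even_iff_odd] at hne
    rw [hzz j hne] at hzj
    exact hz1 hzj
  obtain ⟨j', hj'⟩ := hjeven
  -- choose i
  obtain ⟨i, hi⟩ : ∃ i : ℤ, (g * a ^ i) * (g * a ^ i) = 1 := by
    have hform : ∀ i : ℤ, (g * a ^ i) * (g * a ^ i) = a ^ (2 * i + j) * z ^ i := by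
      intro i
      calc (g * a ^ i) * (g * a ^ i) = (g * a ^ i * g⁻¹) * (g * g) * a ^ i := by group
        _ = (a ^ i * z ^ i) * a ^ j * a ^ i := by rw [act g hg i, hj]
        _ = a ^ i * (z ^ i * a ^ (j + i)) := by rw [zpow_add]; group
        _ = a ^ i * (a ^ (j + i) * z ^ i) := by
            rw [((show Commute z a from haz.symm).zpow_zpow i (j + i)).eq]
        _ = a ^ (2 * i + j) * z ^ i := by
            rw [← mul_assoc, ← zpow_add]; congr 2; ring
    rcases Int.even_or_odd j' with he | ho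
    · refine ⟨-j', ?_⟩
      rw [hform, hzz0 _ he.neg, mul_one]
      have : 2 * -j' + j = 0 := by omega
      rw [this, zpow_zero]
    · refine ⟨-j' + (2 ^ (k - 2) : ℕ), ?_⟩
      have hev : Even (((2 ^ (k - 2) : ℕ) : ℤ)) := by
        rw [hk3]; push_cast; exact even_two_mul _
      rw [hform, hzz _ (ho.neg.add_even hev)]
      have : 2 * (-j' + ((2 ^ (k - 2) : ℕ) : ℤ)) + j = ((2 ^ (k - 1) : ℕ) : ℤ) := by
        rw [hk2]; push_cast; omega
      rw [this, zpow_natCast, ← hz, hz2]
  set w := g * a ^ i with hw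
  have hwa : w * a * w⁻¹ = a * z := by
    rw [hw]
    calc g * a ^ i * a * (g * a ^ i)⁻¹ = g * a * g⁻¹ := by group
      _ = a * z := hg
  have hwz : w * z = z * w := hzc w
  have hw1 : w ≠ 1 := by
    intro h
    rw [h] at hwa
    simp at hwa
    exact hz1 hwa
  have hwzne : w ≠ z := by
    intro h
    rw [h] at hwa
    have : z * a * z⁻¹ = a := by rw [← haz]; group
    rw [this] at hwa
    have h3 : a * 1 = a * z := by rw [mul_one]; exact hwa
    exact hz1 (mul_left_cancel h3).symm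
  -- conjugates of w
  have hconj : ∀ x : P, x * w * x⁻¹ = w ∨ x * w * x⁻¹ = z * w := by
    intro x
    set y := x * w * x⁻¹ with hy
    have hyy : y * y = 1 := by
      rw [hy]
      calc x * w * x⁻¹ * (x * w * x⁻¹) = x * (w * w) * x⁻¹ := by group
        _ = 1 := by rw [hi]; group
    have hya : y * a * y⁻¹ = a * z := by
      obtain ⟨r, hr, hxr⟩ := hodd x⁻¹
      rw [inv_inv] at hxr
      have h1 : x * a ^ r * x⁻¹ = a := by
        rw [← hxr]; group
      rw [hy]
      calc x * w * x⁻¹ * a * (x * w * x⁻¹)⁻¹ = x * (w * (x⁻¹ * a * x) * w⁻¹) * x⁻¹ := by group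
        _ = x * (a ^ r * z ^ r) * x⁻¹ := by rw [hxr, act w hwa r]
        _ = (x * a ^ r * x⁻¹) * (x * z ^ r * x⁻¹) := by group
        _ = a * z := by rw [h1, hzz r hr, hzcen x]
    -- y * w⁻¹ centralizes a
    have hyw : (y * w⁻¹) * a = a * (y * w⁻¹) := by
      have hw' : w⁻¹ * (a * z) * w = a := by rw [← hwa]; group
      have hw3 : w⁻¹ * a * w = a * z := by
        have h6 : w⁻¹ * (a * z) * w = (w⁻¹ * a * w) * (w⁻¹ * z * w) := by group
        have h7 : w⁻¹ * z * w = z := by
          have := hzcen w⁻¹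
          rwa [inv_inv] at this
        rw [h7, hw'] at h6
        calc w⁻¹ * a * w = (w⁻¹ * a * w) * (z * z) := by rw [hz2, mul_one]
          _ = ((w⁻¹ * a * w) * z) * z := by group
          _ = a * z := by rw [← h6]
      calc (y * w⁻¹) * a = y * (w⁻¹ * a * w) * w⁻¹ := by group
        _ = y * (a * z) * w⁻¹ := by rw [hw3]
        _ = (y * a * y⁻¹) * (y * z * y⁻¹) * y * w⁻¹ := by group
        _ = (a * z) * z * y * w⁻¹ := by rw [hya, hzcen y]
        _ = a * (z * z) * (y * w⁻¹) := by group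
        _ = a * (y * w⁻¹) := by rw [hz2, mul_one]
    have hwT : w ∈ T := T.mul_mem hgT (T.zpow_mem haT i)
    have hyT : y * w⁻¹ ∈ T := T.mul_mem (hT.conj_mem w hwT x) (T.inv_mem hwT)
    obtain ⟨l, hl⟩ := Subgroup.mem_zpowers_iff.mp (hcen _ hyT hyw)
    have hyl : y = a ^ l * w := by rw [hl]; group
    have h9 : a ^ (2 * l) * z ^ l = 1 := by
      have : y * y = a ^ (2 * l) * z ^ l := by
        rw [hyl]
        calc a ^ l * w * (a ^ l * w) = a ^ l * (w * a ^ l * w⁻¹) * (w * w) := by group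
          _ = a ^ l * (a ^ l * z ^ l) := by rw [act w hwa l, hi, mul_one]
          _ = a ^ (2 * l) * z ^ l := by rw [← mul_assoc, ← zpow_add]; congr 2; ring
      rw [← this]; exact hyy
    rcases key l h9 with h | h
    · left; rw [hyl, h, one_mul]
    · right; rw [hyl, h]
  -- build W
  have hww : w * w = 1 := hi
  let W : Subgroup P :=
    { carrier := {x | x = 1 ∨ x = z ∨ x = w ∨ x = z * w}
      one_mem' := Or.inl rfl
      mul_mem' := by
        have e1 : z * (z * w) = w := by rw [← mul_assoc, hz2, one_mul]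
        have e2 : w * (z * w) = z := by rw [← hwz, ← mul_assoc, hww, one_mul]
        have e3 : z * w * z = w := by rw [mul_assoc, hwz, e1]
        have e4 : z * w * w = z := by rw [mul_assoc, hww, mul_one]
        have e5 : z * w * (z * w) = 1 := by rw [mul_assoc, e2, hz2]
        rintro x y (rfl | rfl | rfl | rfl) (rfl | rfl | rfl | rfl) <;>
          simp only [Set.mem_ofPred_eq, one_mul, mul_one, hz2, hww, hwz, e1, e2, e3, e4, e5,
            true_or, or_true]
      inv_mem' := by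
        have e0 : z⁻¹ = z := inv_eq_of_mul_eq_one_left hz2
        have e1 : w⁻¹ = w := inv_eq_of_mul_eq_one_left hww
        rintro x (rfl | rfl | rfl | rfl)
        · left; simp
        · right; left; exact e0
        · right; right; left; exact e1
        · right; right; right; rw [mul_inv_rev, e0, e1, hwz] }
  have hWmem : ∀ x, x ∈ W ↔ (x = 1 ∨ x = z ∨ x = w ∨ x = z * w) := fun x => Iff.rfl
  have hWsq : ∀ x ∈ W, x * x = 1 := by
    intro x hx
    rcases (hWmem x).mp hx with rfl | rfl | rfl | rfl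
    · simp
    · exact hz2
    · exact hww
    · calc z * w * (z * w) = z * (w * z) * w := by group
        _ = z * (z * w) * w := by rw [hwz]
        _ = (z * z) * (w * w) := by group
        _ = 1 := by rw [hz2, hww, one_mul]
  refine ⟨W, ?_, ⟨?_⟩, ?_, ?_⟩
  · have hwT : w ∈ T := T.mul_mem hgT (T.zpow_mem haT i)
    have hzT : z ∈ T := T.pow_mem haT _
    intro x hx
    rcases (hWmem x).mp hx with rfl | rfl | rfl | rfl
    · exact T.one_mem
    · exact hzT
    · exact hwT
    · exact T.mul_mem hzT hwT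
  · intro x hx y
    rcases (hWmem x).mp hx with rfl | rfl | rfl | rfl
    · simpa using W.one_mem
    · rw [hzcen y]; exact hx
    · rcases hconj y with h | h
      · rw [h]; exact hx
      · rw [h]; exact (hWmem _).mpr (Or.inr (Or.inr (Or.inr rfl)))
    · have h1 : y * (z * w) * y⁻¹ = z * (y * w * y⁻¹) := by
        calc y * (z * w) * y⁻¹ = (y * z * y⁻¹) * (y * w * y⁻¹) := by group
          _ = z * (y * w * y⁻¹) := by rw [hzcen y]
      rw [h1]
      rcases hconj y with h | h
      · rw [h]; exact hx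
      · rw [h, ← mul_assoc, hz2, one_mul]; exact (hWmem _).mpr (Or.inr (Or.inr (Or.inl rfl)))
  · refine IsMulCommutative.of_comm ?_
    intro x y
    apply Subtype.ext
    show x.1 * y.1 = y.1 * x.1
    have h1 := hWsq _ (W.mul_mem x.2 y.2)
    have hx := hWsq _ x.2
    have hy := hWsq _ y.2
    have hxi : (x.1)⁻¹ = x.1 := inv_eq_of_mul_eq_one_left hx
    have hyi : (y.1)⁻¹ = y.1 := inv_eq_of_mul_eq_one_left hy
    have := inv_eq_of_mul_eq_one_left h1
    rw [mul_inv_rev, hxi, hyi] at this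
    exact this.symm
  · intro hcyc
    obtain ⟨c, hc⟩ := hcyc.exists_generator
    have hcc : c * c = 1 := Subtype.ext (hWsq _ c.2)
    have hall : ∀ x : W, x = 1 ∨ x = c := by
      intro x
      obtain ⟨n, rfl⟩ := Subgroup.mem_zpowers_iff.mp (hc x)
      rcases Int.even_or_odd n with ⟨t, rfl⟩ | ⟨t, rfl⟩
      · left
        rw [← two_mul, zpow_mul, zpow_two, hcc, one_zpow]
      · right
        rw [zpow_add, zpow_mul, zpow_two, hcc, one_zpow, one_mul, zpow_one]
    have hzW : z ∈ W := (hWmem z).mpr (Or.inr (Or.inl rfl))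
    have hwW : w ∈ W := (hWmem w).mpr (Or.inr (Or.inr (Or.inl rfl)))
    have e1 : (⟨z, hzW⟩ : W) = c := by
      rcases hall ⟨z, hzW⟩ with h | h
      · exact absurd (congrArg Subtype.val h) hz1
      · exact h
    have e2 : (⟨w, hwW⟩ : W) = c := by
      rcases hall ⟨w, hwW⟩ with h | h
      · exact absurd (congrArg Subtype.val h) hw1
      · exact h
    have : (⟨w, hwW⟩ : W) = ⟨z, hzW⟩ := e2.trans e1.symm
    exact hwzne (congrArg Subtype.val this)


/-- A normal subgroup `T ≠ 1` of a 2-group contains a cyclic subgroup `⟨a⟩`, normal and self-centralizing in `T`, if all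
abelian subgroups of `T` normal in the group are cyclic. -/
theorem exists_cyclic (hP : IsPGroup 2 P) (T : Subgroup P) (hT : T.Normal)
    (hn : ∀ A : Subgroup P, A ≤ T → A.Normal → IsMulCommutative A → IsCyclic A) :
    ∃ a ∈ T, (Subgroup.zpowers a).Normal ∧ ∀ x ∈ T, x * a = a * x → x ∈ Subgroup.zpowers a := by
  have : Group.IsNilpotent P := hP.isNilpotent
  obtain ⟨A, hBA, hA⟩ := (Set.toFinite {A : Subgroup P | A ≤ T ∧ A.Normal ∧ IsMulCommutative A}).exists_le_maximal
    (a := ⊥) ⟨bot_le, inferInstance, inferInstance⟩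
  obtain ⟨hAT, hAn, hAc⟩ := hA.1
  have hmax : ∀ C : Subgroup P, C ≤ T → C.Normal → IsMulCommutative C → A ≤ C → C ≤ A :=
    fun C hCT hC hCc hAC => hA.2 ⟨hCT, hC, hCc⟩ hAC
  have hcyc := hn A hAT hAn hAc
  have hcent : T ⊓ Subgroup.centralizer (A : Set P) ≤ A := by
    by_contra hcon
    obtain ⟨x, hx, hxA, hcx⟩ := Cfsg.Agent.Lib.NormalAbelian.exists_mem_not_mem_central_mod hAn
      (inferInstance : (T ⊓ Subgroup.centralizer (A : Set P)).Normal) hcon
    obtain ⟨h1, h2⟩ := Cfsg.Agent.Lib.NormalAbelian.sup_zpowers_normal_abelian hAn hAc hx.2 hcx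
    have h3 := hmax _ (sup_le hAT (Subgroup.zpowers_le.mpr hx.1)) h1 h2 le_sup_left
    exact hxA (h3 ((le_sup_right : Subgroup.zpowers x ≤ _) (Subgroup.mem_zpowers x)))
  obtain ⟨⟨a, haA⟩, hgen⟩ := hcyc.exists_generator
  have hAa : A = Subgroup.zpowers a := by
    apply le_antisymm
    · intro x hx
      obtain ⟨k, hk⟩ := Subgroup.mem_zpowers_iff.1 (hgen ⟨x, hx⟩)
      refine Subgroup.mem_zpowers_iff.2 ⟨k, ?_⟩
      exact congrArg Subtype.val hk
    · exact Subgroup.zpowers_le.2 haA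
  refine ⟨a, hAT haA, hAa ▸ hAn, ?_⟩
  intro x hxT hx
  rw [← hAa]
  apply hcent
  refine ⟨hxT, ?_⟩
  refine Subgroup.mem_centralizer_iff.mpr ?_
  intro y hy
  rw [SetLike.mem_coe, hAa] at hy
  obtain ⟨n, rfl⟩ := Subgroup.mem_zpowers_iff.mp hy
  exact ((show Commute x a from hx).zpow_right n).symm.eq

/-- The elements of `T` outside `⟨a⟩` act on `a` with exponent `3` modulo `4`; their pairwise products lie in
`⟨a⟩`. -/
theorem act_mod_four (hP : IsPGroup 2 P) (T : Subgroup P) (hT : T.Normal)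
    (hn : ∀ A : Subgroup P, A ≤ T → A.Normal → IsMulCommutative A → IsCyclic A)
    (a : P) (haT : a ∈ T) (hnorm : (Subgroup.zpowers a).Normal)
    (hcen : ∀ x ∈ T, x * a = a * x → x ∈ Subgroup.zpowers a) :
    (∀ x ∈ T, x ∉ Subgroup.zpowers a → ∀ r : ℤ, x * a * x⁻¹ = a ^ r → (4 : ℤ) ∣ r + 1) ∧
    (∀ x ∈ T, x ∉ Subgroup.zpowers a → ∀ b ∈ T, b ∉ Subgroup.zpowers a → x * b ∈ Subgroup.zpowers a) := by
  obtain ⟨k, hk⟩ := IsPGroup.iff_orderOf.mp hP a
  have hact : ∀ x : P, ∃ r : ℤ, x * a * x⁻¹ = a ^ r := by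
    intro x
    obtain ⟨r, hr⟩ := Subgroup.mem_zpowers_iff.mp (hnorm.conj_mem a (Subgroup.mem_zpowers a) x)
    exact ⟨r, hr.symm⟩
  by_cases hone : ∀ x ∈ T, x ∈ Subgroup.zpowers a
  · exact ⟨fun x hx hx' => absurd (hone x hx) hx', fun x hx hx' => absurd (hone x hx) hx'⟩
  push Not at hone
  obtain ⟨b, hbT, hb⟩ := hone
  -- every element outside A acts with exponent ≡ 3 mod 4
  have hk2 : 2 ≤ k := by
    by_contra hlt
    -- a ^ 2 = 1, then a is central
    have ha2 : a * a = 1 := by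
      have h1 : a ^ (2 ^ k) = 1 := hk ▸ pow_orderOf_eq_one a
      have : k = 0 ∨ k = 1 := by omega
      rcases this with rfl | rfl
      · simp at h1; rw [h1, one_mul]
      · simpa [sq] using h1
    apply hb
    apply hcen _ hbT
    obtain ⟨r, hr⟩ := hact b
    rcases Int.even_or_odd r with ⟨t, rfl⟩ | ⟨t, rfl⟩
    · rw [← two_mul, zpow_mul, zpow_two, ha2, one_zpow] at hr
      have : a = 1 := by
        have := congrArg (fun y => b⁻¹ * y * b) hr
        simpa [mul_assoc] using this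
      rw [this]; simp
    · rw [zpow_add, zpow_mul, zpow_two, ha2, one_zpow, one_mul, zpow_one] at hr
      exact mul_inv_eq_iff_eq_mul.mp hr
  have hodd : ∀ x : P, ∀ r : ℤ, x * a * x⁻¹ = a ^ r → Odd r := by
    intro x r hr
    by_contra hne
    rw [Int.not_odd_iff_even] at hne
    obtain ⟨t, rfl⟩ := hne
    have hk1 : 2 ^ k = 2 * 2 ^ (k - 1) := by
      rw [← pow_succ']; congr 1; omega
    have ha1 : a ^ (2 ^ k) = 1 := hk ▸ pow_orderOf_eq_one a
    have h1 : (x * a * x⁻¹) ^ (2 ^ (k - 1)) = 1 := by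
      rw [hr, ← zpow_natCast, ← zpow_mul]
      have : (t + t) * ((2 ^ (k - 1) : ℕ) : ℤ) = ((2 ^ k : ℕ) : ℤ) * t := by
        rw [hk1]; push_cast; ring
      rw [this, zpow_mul, zpow_natCast, ha1, one_zpow]
    rw [conj_pow] at h1
    have h2 : a ^ (2 ^ (k - 1)) = 1 := by
      have := congrArg (fun y => x⁻¹ * y * x) h1
      simpa [mul_assoc] using this
    have := orderOf_dvd_of_pow_eq_one h2
    rw [hk] at this
    have h3 := Nat.le_of_dvd (by positivity) this
    have : 0 < 2 ^ (k - 1) := by positivity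
    omega
  have hmain : ∀ x ∈ T, x ∉ Subgroup.zpowers a → ∀ r : ℤ, x * a * x⁻¹ = a ^ r →
      ¬ (4 : ℤ) ∣ r - 1 := by
    intro x hxT hx r hr h4
    have hrk : ¬ ((2 ^ k : ℤ) ∣ r - 1) := by
      intro hd
      apply hx
      apply hcen _ hxT
      have h1 : a ^ r = a := by
        obtain ⟨t, ht⟩ := hd
        have : r = ((2 ^ k : ℕ) : ℤ) * t + 1 := by push_cast; linarith
        rw [this, zpow_add, zpow_mul, zpow_natCast, ← hk, pow_orderOf_eq_one, one_zpow, one_mul,
          zpow_one]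
      rw [h1] at hr
      exact mul_inv_eq_iff_eq_mul.mp hr
    obtain ⟨hk3, m, u, hu, hm⟩ := Cfsg.Agent.Classification.NormalCyclic.exists_pow_eq k r h4 hrk
    have hpow : ∀ m : ℕ, x ^ m * a * (x ^ m)⁻¹ = a ^ (r ^ m) := by
      intro m
      induction m with
      | zero => simp
      | succ m ih =>
        calc x ^ (m + 1) * a * (x ^ (m + 1))⁻¹ = x * (x ^ m * a * (x ^ m)⁻¹) * x⁻¹ := by
              rw [pow_succ']; group
          _ = x * a ^ (r ^ m) * x⁻¹ := by rw [ih]
          _ = (x * a * x⁻¹) ^ (r ^ m) := by rw [conj_zpow]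
          _ = a ^ (r ^ (m + 1)) := by rw [hr, ← zpow_mul, pow_succ']
    have hgm := hpow m
    rw [hm, zpow_add, zpow_one] at hgm
    have hz : a ^ ((2 : ℤ) ^ (k - 1) * u) = a ^ (2 ^ (k - 1)) := by
      obtain ⟨v, rfl⟩ := hu
      have e : ((2 : ℤ) ^ (k - 1) * (2 * v + 1)) = ((2 ^ k : ℕ) : ℤ) * v + ((2 ^ (k - 1) : ℕ) : ℤ) := by
        have hk1 : 2 ^ k = 2 * 2 ^ (k - 1) := by
          rw [← pow_succ']; congr 1; omega
        rw [hk1]; push_cast; ring
      rw [e, zpow_add, zpow_mul, zpow_natCast, zpow_natCast]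
      rw [← hk, pow_orderOf_eq_one, one_zpow, one_mul]
    rw [hz] at hgm
    obtain ⟨W, hWT, hWn, hWc, hWnc⟩ := exists_klein_of_modular T hT k hk3 a (x ^ m) haT
      (T.pow_mem hxT m) hk hnorm hcen hgm
    exact hWnc (hn W hWT hWn hWc)
  constructor
  · intro x hxT hx r hr
    have h1 := hmain x hxT hx r hr
    obtain ⟨r', hr'⟩ := hodd x r hr
    omega
  · intro x hxT hx b hbT hb
    by_contra hxb
    obtain ⟨r, hr⟩ := hact x
    obtain ⟨s, hs⟩ := hact b
    have hrs : (x * b) * a * (x * b)⁻¹ = a ^ (r * s) := by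
      calc (x * b) * a * (x * b)⁻¹ = x * (b * a * b⁻¹) * x⁻¹ := by group
        _ = (x * a * x⁻¹) ^ s := by rw [hs, conj_zpow]
        _ = a ^ (r * s) := by rw [hr, ← zpow_mul]
    have h1 := hmain x hxT hx r hr
    have h2 := hmain b hbT hb s hs
    have h3 := hmain (x * b) (T.mul_mem hxT hbT) hxb (r * s) hrs
    obtain ⟨r', hr'⟩ := hodd x r hr
    obtain ⟨s', hs'⟩ := hodd b s hs
    apply h3
    have hr4 : (4 : ℤ) ∣ r + 1 := by omega
    have hs4 : (4 : ℤ) ∣ s + 1 := by omega
    obtain ⟨c, hc⟩ := hr4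
    obtain ⟨d, hd⟩ := hs4
    have e1 : r = 4 * c - 1 := by linarith
    have e2 : s = 4 * d - 1 := by linarith
    rw [e1, e2]
    exact ⟨4 * c * d - c - d, by ring⟩

/-- **Relative trichotomy.** -/
theorem trichotomy (hP : IsPGroup 2 P) (T : Subgroup P) (hT : T.Normal)
    (hn : ∀ A : Subgroup P, A ≤ T → A.Normal → IsMulCommutative A → IsCyclic A) :
    (∀ x ∈ T, ∀ y ∈ T, x * x = 1 → y * y = 1 → x ≠ 1 → y ≠ 1 → x = y) ∨
      (∃ m : ℕ, 2 ≤ m ∧ Nonempty (T ≃* DihedralGroup m)) ∨ Cfsg.IsQuasiDihedral T := by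
  classical
  obtain ⟨a, haT, hnorm, hcen⟩ := exists_cyclic hP T hT hn
  obtain ⟨h4, hprod⟩ := act_mod_four hP T hT hn a haT hnorm hcen
  obtain ⟨k, hk⟩ := IsPGroup.iff_orderOf.mp hP a
  by_cases hinv : ∀ x ∈ T, x * x = 1 → x ≠ 1 → x ∈ Subgroup.zpowers a
  · left
    intro x hx y hy hxx hyy hx1 hy1
    have hxa := hinv x hx hxx hx1
    have hya := hinv y hy hyy hy1
    have hcyc : IsCyclic (Subgroup.zpowers a) := inferInstance
    have h := eq_of_isCyclic hcyc (x := ⟨x, hxa⟩) (y := ⟨y, hya⟩) (Subtype.ext hxx)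
      (Subtype.ext hyy) (fun h => hx1 (congrArg Subtype.val h)) (fun h => hy1 (congrArg Subtype.val h))
    exact congrArg Subtype.val h
  · right
    push Not at hinv
    obtain ⟨v, hvT, hvv, hv1, hva⟩ := hinv
    -- `a ≠ 1`
    have hk1 : 1 ≤ k := by
      by_contra hlt
      have hk0 : k = 0 := by omega
      rw [hk0, pow_zero, orderOf_eq_one_iff] at hk
      apply hva
      apply hcen v hvT
      rw [hk, mul_one, one_mul]
    have hcardT : Nat.card T = 2 ^ (k + 1) := by
      have hAT : Subgroup.zpowers a ≤ T := Subgroup.zpowers_le.mpr haT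
      have h1 : (Subgroup.zpowers a).relIndex T = 2 := by
        rw [Subgroup.relIndex, Subgroup.index_eq_two_iff]
        refine ⟨⟨v, hvT⟩, fun x => ?_⟩
        simp only [Subgroup.mem_subgroupOf, Subgroup.coe_mul]
        by_cases hx : (x : P) ∈ Subgroup.zpowers a
        · right
          refine ⟨hx, fun hxb => hva ?_⟩
          exact (Subgroup.mul_mem_cancel_left _ hx).mp hxb
        · left
          exact ⟨hprod x x.2 hx v hvT hva, hx⟩
      have h2 := Subgroup.card_mul_index ((Subgroup.zpowers a).subgroupOf T)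
      rw [Nat.card_congr (Subgroup.subgroupOfEquivOfLe hAT).toEquiv, Nat.card_zpowers, hk] at h2
      rw [Subgroup.relIndex] at h1
      rw [← h2, h1, pow_succ]
    refine Cfsg.Agent.TwoFusion.MaxClass.dihedral_or_qd_of_cyclic k hk1 ⟨a, haT⟩ ?_ hcardT ⟨v, hvT⟩ ?_ ?_ ?_
    · rw [Subgroup.orderOf_mk, hk]
    · rw [Subgroup.orderOf_mk]
      exact orderOf_eq_prime (by rw [pow_two]; exact hvv) hv1
    · intro h
      obtain ⟨n, hn⟩ := Subgroup.mem_zpowers_iff.mp h
      apply hva
      exact Subgroup.mem_zpowers_iff.mpr ⟨n, congrArg Subtype.val hn⟩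
    · intro j hj
      have hj' : v * a ^ j * v⁻¹ = a ^ j := congrArg Subtype.val hj
      obtain ⟨r, hr⟩ := Subgroup.mem_zpowers_iff.mp (hnorm.conj_mem a (Subgroup.mem_zpowers a) v)
      have h5 := h4 v hvT hva r hr.symm
      rw [← conj_zpow, ← hr, ← zpow_mul] at hj'
      have h6 : a ^ (r * j - j) = 1 := by rw [zpow_sub, hj', mul_inv_cancel]
      have h7 := orderOf_dvd_iff_zpow_eq_one.mpr h6
      rw [hk] at h7
      push_cast at h7
      have h8 : (2 : ℤ) ^ k ∣ 2 * j := by
        obtain ⟨c, hc⟩ := h5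
        have e : r * j - j = (2 * j) * (2 * c - 1) := by
          have : r = 4 * c - 1 := by linarith
          rw [this]; ring
        rw [e] at h7
        have hco : IsCoprime ((2 : ℤ) ^ k) (2 * c - 1) := by
          apply IsCoprime.pow_left
          exact ⟨c, -1, by ring⟩
        exact hco.dvd_of_dvd_mul_right h7
      have h9 : a ^ (2 * j) = 1 := by
        rw [← orderOf_dvd_iff_zpow_eq_one, hk]
        exact_mod_cast h8
      exact Subtype.ext h9

end Cfsg.Agent.H21.RelMax
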