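import Mathlib
import Cfsg.Agent.H21.FourAct
import Cfsg.Agent.H21.RelMax
import Cfsg.Agent.Cit.FourFixL
import Cfsg.Agent.Cit.FourFixU
import Cfsg.Agent.SectRankFour.AutM11
import Cfsg.Agent.H571.SylowNumber
import Cfsg.Agent.S0483
import Cfsg.Agent.S0507
import Cfsg.Agent.S1214
import Cfsg.Agent.S0205

/-!
# Perfect groups with dihedral or quasi-dihedral Sylow 2-subgroups; four-groups acting on a perfect group

* `ff_or_rep` : the simple group `A/O(A)`: it has the property `FF` or is `PSL(2,q)`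
* `nf_of_four` : a four-group acts on a perfect group `A` such that no four-group of `A` is centralised by an
  involution of it: then `A` has no four-groups
-/

set_option autoImplicit false

namespace Cfsg.Agent.H21.FourEnd

open Subgroup Cfsg.Agent.H21.FourAct
open Cfsg.Agent.GH.L2Aut

/-- a perfect finite group with a simple normal subgroup of odd index is simple -/
theorem simple_of_odd_index {Q : Type*} [Group Q] [Finite Q] [Group.IsPerfect Q] (L : Subgroup Q) (hn : L.Normal)
    (hodd : Odd L.index) (hL : IsSimpleGroup L) : IsSimpleGroup Q := by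
  have hsol : Group.IsSolvable (Q ⧸ L) := by
    apply Cfsg.Agent.S0205.result
    rw [← Subgroup.index_eq_card]
    exact hodd
  have htriv : Subsingleton (Q ⧸ L) := by
    by_contra hns
    rw [not_subsingleton_iff_nontrivial] at hns
    exact Group.IsPerfect.not_isSolvable (Q ⧸ L) hsol
  have htop : L = ⊤ := by
    rw [← Subgroup.index_eq_one, Subgroup.index_eq_card]
    exact Nat.card_eq_one_iff_unique.mpr ⟨htriv, ⟨1⟩⟩
  exact ((MulEquiv.subgroupCongr htop).trans Subgroup.topEquiv).isSimpleGroup_congr.mp hL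

/-- fewer four-groups in the whole group than in a Sylow subgroup -/
theorem nf_of_sylow {A : Type*} [Group A] [Finite A] (S : Sylow 2 A)
    (h : ∀ x ∈ S, ∀ y ∈ S, x * x = 1 → y * y = 1 → x ≠ 1 → y ≠ 1 → x = y) : NF A := by
  intro x y hx hy hx1 hy1 hc
  obtain ⟨Q, hQ⟩ := (Cfsg.Agent.H21.CycFix.isPGroup_pair hx hy hc).exists_le_sylow
  have hxQ : x ∈ (Q : Subgroup A) := hQ (Subgroup.subset_closure (by simp))
  have hyQ : y ∈ (Q : Subgroup A) := hQ (Subgroup.subset_closure (by simp))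
  have : Fact (Nat.Prime 2) := ⟨Nat.prime_two⟩
  obtain ⟨g, hg⟩ := MulAction.exists_smul_eq A Q S
  have hmem : ∀ z ∈ (Q : Subgroup A), g * z * g⁻¹ ∈ S := by
    intro z hz
    rw [← hg]
    show g * z * g⁻¹ ∈ ((g • Q : Sylow 2 A) : Subgroup A)
    rw [Sylow.coe_subgroup_smul, Subgroup.mem_pointwise_smul_iff_inv_smul_mem]
    simpa [MulAut.smul_def, mul_assoc] using hz
  have hsq : ∀ z : A, z * z = 1 → (g * z * g⁻¹) * (g * z * g⁻¹) = 1 := by
    intro z hz
    calc (g * z * g⁻¹) * (g * z * g⁻¹) = g * (z * z) * g⁻¹ := by group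
      _ = 1 := by rw [hz]; group
  have hne : ∀ z : A, z ≠ 1 → g * z * g⁻¹ ≠ 1 := by
    intro z hz h1
    apply hz
    have : z = g⁻¹ * (g * z * g⁻¹) * g := by group
    rw [this, h1]; group
  have h1 := h _ (hmem x hxQ) _ (hmem y hyQ) (hsq x hx) (hsq y hy) (hne x hx1) (hne y hy1)
  have h2 : x = g⁻¹ * (g * x * g⁻¹) * g := by group
  rw [h2, h1]; group

/-- a simple group which is not cyclic -/
theorem not_cyclic_of_perfect {Q : Type*} [Group Q] [Nontrivial Q] [Group.IsPerfect Q] : ¬ IsCyclic Q := by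
  intro h
  apply Group.IsPerfect.not_isMulCommutative Q
  exact ⟨⟨fun x y => h.commGroup.mul_comm x y⟩⟩

/-- the simple quotient `A/O(A)` of a perfect group with dihedral or quasi-dihedral Sylow 2-subgroups -/
theorem ff_or_rep {A : Type*} [Group A] [Finite A] [Group.IsPerfect A] (S : Sylow 2 A)
    (h : (∃ m : ℕ, 2 ≤ m ∧ Nonempty ((S : Subgroup A) ≃* DihedralGroup m)) ∨
      Cfsg.IsQuasiDihedral (S : Subgroup A)) :
    IsSimpleGroup (A ⧸ Cfsg.oddCore A) ∧ (FF (A ⧸ Cfsg.oddCore A) ∨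
      ∃ (F : Type) (_ : Field F) (_ : Finite F), Nonempty (Cfsg.Agent.GH.L2Aut.Rep F (A ⧸ Cfsg.oddCore A))) := by
  rcases h with ⟨m, hm, hS⟩ | hS
  · rcases Cfsg.Agent.S0483.result S m hm hS with ⟨F, hF1, hF2, hodd, h3, ⟨e⟩⟩ | ⟨⟨e⟩⟩
    · have h4 : 4 ≤ Nat.card F := by rw [Nat.card_eq_fintype_card]; omega
      have := Matrix.ProjectiveSpecialLinearGroup.rank_two_simple h4
      refine ⟨e.isSimpleGroup, Or.inr ⟨F, hF1, inferInstance, ⟨?_⟩⟩⟩
      exact Cfsg.Agent.GH.L2Aut.Rep.ofEquiv (Cfsg.Agent.GH.L2Aut.two_ne_zero_of_odd hodd) e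
    · have : IsSimpleGroup (alternatingGroup (Fin 7)) := alternatingGroup.isSimpleGroup (by simp)
      exact ⟨e.isSimpleGroup, Or.inl (ff_seven e)⟩
  · have hG : ∀ H : Subgroup A, H.index ≠ 2 := by
      intro H hH
      have hn : H.Normal := Subgroup.normal_of_index_eq_two hH
      have hcard : Nat.card (A ⧸ H) = 2 := by rw [← Subgroup.index_eq_card, hH]
      have hnt : Nontrivial (A ⧸ H) := by
        rw [← Finite.one_lt_card_iff_nontrivial, hcard]; norm_num
      have : Fact (Nat.Prime 2) := ⟨Nat.prime_two⟩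
      have hc : IsCyclic (A ⧸ H) := isCyclic_of_prime_card hcard
      exact not_cyclic_of_perfect hc
    obtain ⟨L, hn, hodd, hL, hLn⟩ := Cfsg.Agent.S1214.result S (Or.inl hS) hG
    have hsim := simple_of_odd_index L hn hodd hL
    have hnc : ¬ IsCyclic (A ⧸ Cfsg.oddCore A) := not_cyclic_of_perfect
    refine ⟨hsim, Or.inl ?_⟩
    apply ff_of_fourFix hnc
    -- the Sylow subgroup of the quotient
    have hs : Function.Surjective (QuotientGroup.mk' (Cfsg.oddCore A)) := QuotientGroup.mk'_surjective _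
    have : Fact (Nat.Prime 2) := ⟨Nat.prime_two⟩
    let P : Sylow 2 (A ⧸ Cfsg.oddCore A) := S.mapSurjective hs
    have hinj : Function.Injective
        ((QuotientGroup.mk' (Cfsg.oddCore A)).subgroupMap (S : Subgroup A)) := by
      rw [injective_iff_map_eq_one]
      intro s h1
      have h2 : QuotientGroup.mk' (Cfsg.oddCore A) (s : A) = 1 := congrArg Subtype.val h1
      have h3 : (s : A) ∈ Cfsg.oddCore A := (QuotientGroup.eq_one_iff _).1 h2
      obtain ⟨k, hk⟩ := IsPGroup.iff_orderOf.1 S.isPGroup' s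
      have h4 : orderOf (s : A) ∣ Nat.card (Cfsg.oddCore A) := by
        have h5 := orderOf_dvd_natCard (⟨(s : A), h3⟩ : Cfsg.oddCore A)
        rwa [Subgroup.orderOf_mk] at h5
      have h6 : orderOf (s : A) = 2 ^ k := by rw [← hk]; exact Subgroup.orderOf_coe s
      have h7 : Nat.Coprime (Nat.card (Cfsg.oddCore A)) (2 ^ k) :=
        Nat.Coprime.pow_right k (Cfsg.Agent.Lib.Cores.pPrimeCore_coprime (G := A) 2)
      have h8 : orderOf (s : A) = 1 := by
        rw [← h6] at h7
        exact Nat.eq_one_of_dvd_coprimes h7 h4 dvd_rfl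
      exact Subtype.ext (orderOf_eq_one_iff.1 h8)
    let e : (S : Subgroup A) ≃* (P : Subgroup (A ⧸ Cfsg.oddCore A)) :=
      MulEquiv.ofBijective ((QuotientGroup.mk' (Cfsg.oddCore A)).subgroupMap (S : Subgroup A))
        ⟨hinj, MonoidHom.subgroupMap_surjective _ _⟩
    have hP : Cfsg.IsQuasiDihedral (P : Subgroup (A ⧸ Cfsg.oddCore A)) :=
      Cfsg.Agent.TwoFusion.SylowTypeTransfer.isQuasiDihedral_of_mulEquiv e hS
    rcases Cfsg.Agent.S0507.result P hP with ⟨F, hF1, hF2, h3, ⟨f⟩⟩ | ⟨F, hF1, hF2, q, hq, h1, ⟨f⟩⟩ | h11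
    · have h2 : (2 : F) ≠ 0 := Cfsg.Agent.GH.L2Aut.two_ne_zero_of_odd (by
        rw [Nat.odd_iff]; omega)
      exact (Cfsg.Agent.Cit.FourL.fourFix_psl h2).of_equiv f.symm
    · have h2 : (2 : F) ≠ 0 := Cfsg.Agent.GH.L2Aut.two_ne_zero_of_odd (by
        rw [hq]
        have hqo : Odd q := by rw [Nat.odd_iff]; omega
        exact hqo.pow)
      exact (Cfsg.Agent.Cit.FourU.fourFix_psu hq h2).of_equiv f.symm
    · intro x hx hout
      obtain ⟨g, hg⟩ := Cfsg.Agent.SectRankFour.AutM11.exists_conj h11 x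
      exact absurd hg (hout g)

/-- the induced automorphism of `A/O(A)` -/
theorem exists_quot_aut {A : Type*} [Group A] [Finite A] :
    ∃ φ : MulAut A →* MulAut (A ⧸ Cfsg.oddCore A), ∀ (α : MulAut A) (x : A),
      φ α (x : A ⧸ Cfsg.oddCore A) = (α x : A ⧸ Cfsg.oddCore A) := by
  have hc : ∀ α : MulAut A, (Cfsg.oddCore A).map α.toMonoidHom = Cfsg.oddCore A := by
    intro α
    exact Cfsg.Agent.Lib.Cores.map_equiv_pPrimeCore α 2
  refine ⟨{ toFun := fun α => QuotientGroup.congr _ _ α (hc α), map_one' := ?_, map_mul' := ?_ }, ?_⟩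
  · ext x
    obtain ⟨x, rfl⟩ := QuotientGroup.mk_surjective x
    rfl
  · intro α β
    ext x
    obtain ⟨x, rfl⟩ := QuotientGroup.mk_surjective x
    rfl
  · intro α x
    rfl

theorem oddCore_odd {A : Type*} [Group A] [Finite A] : Odd (Nat.card (Cfsg.oddCore A)) :=
  Nat.coprime_two_right.mp (Cfsg.Agent.Lib.Cores.pPrimeCore_coprime (G := A) 2)

/-- two commuting automorphisms of a perfect group with dihedral or quasi-dihedral Sylow 2-subgroups -/
theorem false_of_dsd {A : Type*} [Group A] [Finite A] [Group.IsPerfect A] (S : Sylow 2 A)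
    (h : (∃ m : ℕ, 2 ≤ m ∧ Nonempty ((S : Subgroup A) ≃* DihedralGroup m)) ∨
      Cfsg.IsQuasiDihedral (S : Subgroup A)) {α β : MulAut A} (hα : α * α = 1) (hβ : β * β = 1)
    (hαβ : α * β = β * α) (h1 : NF (fixSub α)) (h2 : NF (fixSub β)) (h3 : NF (fixSub (α * β))) : False := by
  obtain ⟨hsim, hcase⟩ := ff_or_rep S h
  obtain ⟨φ, hφ⟩ := exists_quot_aut (A := A)
  have hsq : (α * β) * (α * β) = 1 := by
    calc (α * β) * (α * β) = α * (β * α) * β := by group
      _ = (α * α) * (β * β) := by rw [← hαβ]; group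
      _ = 1 := by rw [hα, hβ, one_mul]
  have key : ∀ γ : MulAut A, γ * γ = 1 → NF (fixSub γ) → NF (fixSub (φ γ)) := by
    intro γ hγ hnf
    refine nf_fix_quot (Cfsg.oddCore A) oddCore_odd γ hγ ?_ (φ γ) (hφ γ) hnf
    intro n hn
    rw [← QuotientGroup.eq_one_iff] at hn ⊢
    rw [← hφ, hn, map_one]
  have hnc : ¬ IsCyclic (A ⧸ Cfsg.oddCore A) := not_cyclic_of_perfect
  rcases hcase with hff | ⟨F, hF, hFf, ⟨R⟩⟩
  · exact hff (φ α) (by rw [← map_mul, hα, map_one]) (key α hα h1)
  · refine false_of_rep R hnc (α := φ α) (β := φ β) (by rw [← map_mul, hα, map_one])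
      (by rw [← map_mul, hβ, map_one]) (by rw [← map_mul, hαβ, map_mul]) (key α hα h1) (key β hβ h2) ?_
    rw [← map_mul]
    exact key _ hsq h3

/-- an abelian 2-group with at most one involution is cyclic -/
theorem cyclic_of_unique {B : Type*} [Group B] [Finite B] (hB : IsPGroup 2 B) (hc : IsMulCommutative B) (e : B)
    (h : ∀ x : B, x * x = 1 → x = 1 ∨ x = e) : IsCyclic B := by
  have : Fact (Nat.Prime 2) := ⟨Nat.prime_two⟩
  let _i : CommGroup B := { (inferInstance : Group B) with mul_comm := hc.is_comm.comm }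
  refine Cfsg.Agent.Transfer.PGroupNormal.isCyclic_of_card_ker_pow_le (A := B) hB ?_
  classical
  have hf : Fintype (powMonoidHom 2 : B →* B).ker := Fintype.ofFinite _
  have h1 : ∀ x : (powMonoidHom 2 : B →* B).ker, (x : B) = 1 ∨ (x : B) = e := by
    intro x
    apply h
    have h2 : (x : B) ^ 2 = 1 := x.2
    rw [pow_two] at h2
    exact h2
  have h2 : Nat.card (powMonoidHom 2 : B →* B).ker ≤ Nat.card ({1, e} : Finset B) := by
    refine Nat.card_le_card_of_injective (fun x => ⟨(x : B), by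
      rcases h1 x with h3 | h3 <;> simp [h3]⟩) ?_
    intro x y hxy
    apply Subtype.ext
    exact congrArg (fun z : ({1, e} : Finset B) => (z : B)) hxy
  refine h2.trans ?_
  rw [Nat.card_eq_fintype_card, Fintype.card_coe]
  exact Finset.card_le_two

/-- **Main theorem** for a normal subgroup. -/
theorem nf_of_four {G : Type*} [Group G] [Finite G] (A : Subgroup G) [A.Normal] (hperf : Group.IsPerfect A)
    (u v : G) (hu : u * u = 1) (hv : v * v = 1) (hc : u * v = v * u)
    (hnf : ∀ w, w = u ∨ w = v ∨ w = u * v → ∀ x ∈ A, ∀ y ∈ A, w * x = x * w → w * y = y * w →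
      x * x = 1 → y * y = 1 → x ≠ 1 → y ≠ 1 → x * y = y * x → x = y) : NF A := by
  have h2p : Fact (Nat.Prime 2) := ⟨Nat.prime_two⟩
  obtain ⟨P, hP⟩ := (Cfsg.Agent.H21.CycFix.isPGroup_pair hu hv hc).exists_le_sylow
  have huP : u ∈ (P : Subgroup G) := hP (Subgroup.subset_closure (by simp))
  have hvP : v ∈ (P : Subgroup G) := hP (Subgroup.subset_closure (by simp))
  obtain ⟨S, hS⟩ := Cfsg.Agent.H571.SylowNumber.exists_sylow_inf P A
  have huv : (u * v) * (u * v) = 1 := by
    calc (u * v) * (u * v) = u * (v * u) * v := by group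
      _ = (u * u) * (v * v) := by rw [← hc]; group
      _ = 1 := by rw [hu, hv, one_mul]
  -- the normal subgroup `T` of `P`
  have hPnil : Group.IsNilpotent (P : Subgroup G) := P.isPGroup'.isNilpotent
  have hTn : (A.subgroupOf (P : Subgroup G)).Normal := inferInstance
  have htri := Cfsg.Agent.H21.RelMax.trichotomy P.isPGroup' (A.subgroupOf (P : Subgroup G)) hTn ?_
  swap
  · intro B hBT hBn hBc
    by_cases hB : B = ⊥
    · subst hB
      infer_instance
    -- a central involution `e`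
    have h1 := Cfsg.Agent.Lib.NormalAbelian.normal_inf_center_ne_bot B hB
    obtain ⟨e, heB, hec, hee, he1⟩ : ∃ e : (P : Subgroup G), e ∈ B ∧ e ∈ Subgroup.center (P : Subgroup G) ∧
        e * e = 1 ∧ e ≠ 1 := by
      have h2 : 2 ∣ Nat.card ↥(B ⊓ Subgroup.center (P : Subgroup G)) := by
        have h3 : IsPGroup 2 ↥(B ⊓ Subgroup.center (P : Subgroup G)) := P.isPGroup'.to_subgroup _
        obtain ⟨n, hn⟩ := (IsPGroup.iff_card).mp h3
        rw [hn]
        rcases Nat.eq_zero_or_pos n with h0 | h0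
        · exfalso
          rw [h0, pow_zero] at hn
          exact h1 (Subgroup.card_eq_one.mp hn)
        · exact dvd_pow_self 2 (by omega)
      obtain ⟨⟨z, hz⟩, hz2⟩ := exists_prime_orderOf_dvd_card' 2 h2
      rw [Subgroup.orderOf_mk] at hz2
      refine ⟨z, hz.1, hz.2, ?_, ?_⟩
      · have h9 := pow_orderOf_eq_one z
        rwa [hz2, pow_two] at h9
      · intro h; rw [h, orderOf_one] at hz2; omega
    have heA : (e : G) ∈ A := hBT heB
    have hee' : (e : G) * e = 1 := congrArg Subtype.val hee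
    have he1' : (e : G) ≠ 1 := fun h => he1 (Subtype.ext h)
    refine cyclic_of_unique (P.isPGroup'.to_subgroup B) hBc ⟨e, heB⟩ ?_
    rintro ⟨x, hxB⟩ hx
    by_contra hcon
    push Not at hcon
    have hx1 : x ≠ 1 := fun h => hcon.1 (Subtype.ext h)
    have hxe : x ≠ e := fun h => hcon.2 (Subtype.ext h)
    have hxx : x * x = 1 := congrArg Subtype.val hx
    have hcomB : ∀ a ∈ B, ∀ b ∈ B, a * b = b * a := fun a ha b hb =>
      congrArg Subtype.val (hBc.is_comm.comm (⟨a, ha⟩ : B) ⟨b, hb⟩)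
    -- the key
    have key : ∀ w : (P : Subgroup G), ((w : G) = u ∨ (w : G) = v ∨ (w : G) = u * v) → w * w = 1 →
        w * x * w⁻¹ = x * e := by
      intro w hw hww
      have hwB : w * x * w⁻¹ ∈ B := hBn.conj_mem x hxB w
      have hyB : x * (w * x * w⁻¹) ∈ B := B.mul_mem hxB hwB
      have hcx : x * (w * x * w⁻¹) = (w * x * w⁻¹) * x := hcomB _ hxB _ hwB
      have hyw : w * (x * (w * x * w⁻¹)) = (x * (w * x * w⁻¹)) * w := by
        rw [← mul_inv_eq_iff_eq_mul]
        calc w * (x * (w * x * w⁻¹)) * w⁻¹ = (w * x * w⁻¹) * ((w * w) * x * (w * w)⁻¹) := by group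
          _ = (w * x * w⁻¹) * x := by rw [hww]; group
          _ = x * (w * x * w⁻¹) := hcx.symm
      have hyy : (x * (w * x * w⁻¹)) * (x * (w * x * w⁻¹)) = 1 := by
        have h5 : (w * x * w⁻¹) * (w * x * w⁻¹) = 1 := by
          calc (w * x * w⁻¹) * (w * x * w⁻¹) = w * (x * x) * w⁻¹ := by group
            _ = 1 := by rw [hxx]; group
        calc (x * (w * x * w⁻¹)) * (x * (w * x * w⁻¹)) = x * ((w * x * w⁻¹) * x) * (w * x * w⁻¹) := by group
          _ = (x * x) * ((w * x * w⁻¹) * (w * x * w⁻¹)) := by rw [← hcx]; group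
          _ = 1 := by rw [hxx, h5, one_mul]
      have hwe : w * e = e * w := Subgroup.mem_center_iff.mp hec w
      by_cases hy1 : x * (w * x * w⁻¹) = 1
      · exfalso
        have h6 : w * x = x * w := by
          have h7 : w * x * w⁻¹ = x := by
            have := inv_eq_of_mul_eq_one_right hy1
            rw [← this]
            exact inv_eq_of_mul_eq_one_left hxx
          exact mul_inv_eq_iff_eq_mul.mp h7
        apply hxe
        apply Subtype.ext
        exact hnf w hw x (hBT hxB) e heA (congrArg Subtype.val h6) (congrArg Subtype.val hwe)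
          (congrArg Subtype.val hxx) hee' (fun h => hx1 (Subtype.ext h)) he1'
          (congrArg Subtype.val (hcomB x hxB e heB))
      · have h8 : x * (w * x * w⁻¹) = e := by
          apply Subtype.ext
          exact hnf w hw _ (hBT hyB) e heA (congrArg Subtype.val hyw) (congrArg Subtype.val hwe)
            (congrArg Subtype.val hyy) hee' (fun h => hy1 (Subtype.ext h)) he1'
            (congrArg Subtype.val (hcomB _ hyB e heB))
        calc w * x * w⁻¹ = (x * x) * (w * x * w⁻¹) := by rw [hxx, one_mul]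
          _ = x * (x * (w * x * w⁻¹)) := by group
          _ = x * e := by rw [h8]
    have k1 := key ⟨u, huP⟩ (Or.inl rfl) (Subtype.ext hu)
    have k2 := key ⟨v, hvP⟩ (Or.inr (Or.inl rfl)) (Subtype.ext hv)
    have k3 := key (⟨u, huP⟩ * ⟨v, hvP⟩) (Or.inr (Or.inr rfl)) (Subtype.ext huv)
    have k4 : (⟨u, huP⟩ * ⟨v, hvP⟩ : (P : Subgroup G)) * x * (⟨u, huP⟩ * ⟨v, hvP⟩)⁻¹ = x := by
      set u' : (P : Subgroup G) := ⟨u, huP⟩
      set v' : (P : Subgroup G) := ⟨v, hvP⟩
      have hue : u' * e * u'⁻¹ = e := by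
        rw [Subgroup.mem_center_iff.mp hec u']; group
      calc (u' * v') * x * (u' * v')⁻¹ = u' * (v' * x * v'⁻¹) * u'⁻¹ := by group
        _ = (u' * x * u'⁻¹) * (u' * e * u'⁻¹) := by rw [k2]; group
        _ = x * (e * e) := by rw [k1, hue]; group
        _ = x := by rw [hee, mul_one]
    rw [k3] at k4
    exact he1 (mul_eq_left.mp k4)
  -- the Sylow subgroup `S` of `A`
  have hmemS : ∀ x : A, x ∈ (S : Subgroup A) ↔ (x : G) ∈ (P : Subgroup G) := by
    intro x
    rw [hS]; exact Subgroup.mem_subgroupOf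
  let eST : ↥(A.subgroupOf (P : Subgroup G)) ≃* ↥(S : Subgroup A) :=
    { toFun := fun x => ⟨⟨((x : (P : Subgroup G)) : G), x.2⟩, (hmemS _).mpr x.1.2⟩
      invFun := fun y => ⟨⟨((y : A) : G), (hmemS _).mp y.2⟩, y.1.2⟩
      left_inv := fun _ => rfl
      right_inv := fun _ => rfl
      map_mul' := fun _ _ => rfl }
  have hfin : (∃ m : ℕ, 2 ≤ m ∧ Nonempty ((S : Subgroup A) ≃* DihedralGroup m)) ∨
      Cfsg.IsQuasiDihedral (S : Subgroup A) → False := by
    intro hD
    have hconj : ∀ w : G, ∀ x : A, w * (x : G) * w⁻¹ ∈ A := fun w x =>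
      (inferInstance : A.Normal).conj_mem x x.2 w
    have hfixnf : ∀ w, w = u ∨ w = v ∨ w = u * v → NF (fixSub (MulAut.conjNormal (H := A) w)) := by
      intro w hw x y hxx hyy hx1 hy1 hcxy
      have hxw : ∀ z : fixSub (MulAut.conjNormal (H := A) w), w * ((z : A) : G) = ((z : A) : G) * w := by
        intro z
        have h1 : MulAut.conjNormal w (z : A) = (z : A) := z.2
        have h2 : w * ((z : A) : G) * w⁻¹ = ((z : A) : G) := by
          rw [← MulAut.conjNormal_apply, h1]
        exact mul_inv_eq_iff_eq_mul.mp h2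
      apply Subtype.ext
      apply Subtype.ext
      exact hnf w hw _ x.1.2 _ y.1.2 (hxw x) (hxw y)
        (congrArg (fun z : fixSub (MulAut.conjNormal (H := A) w) => ((z : A) : G)) hxx)
        (congrArg (fun z : fixSub (MulAut.conjNormal (H := A) w) => ((z : A) : G)) hyy)
        (fun h => hx1 (Subtype.ext (Subtype.ext h))) (fun h => hy1 (Subtype.ext (Subtype.ext h)))
        (congrArg (fun z : fixSub (MulAut.conjNormal (H := A) w) => ((z : A) : G)) hcxy)
    refine false_of_dsd S hD (α := MulAut.conjNormal (H := A) u) (β := MulAut.conjNormal (H := A) v)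
      (by rw [← map_mul, hu, map_one]) (by rw [← map_mul, hv, map_one]) (by rw [← map_mul, hc, map_mul])
      (hfixnf u (Or.inl rfl)) (hfixnf v (Or.inr (Or.inl rfl))) ?_
    rw [← map_mul]
    exact hfixnf _ (Or.inr (Or.inr rfl))
  rcases htri with h1 | ⟨m, hm, ⟨e⟩⟩ | h2
  · apply nf_of_sylow S
    intro x hx y hy hxx hyy hx1 hy1
    have h3 := h1 ⟨(x : G), (hmemS x).mp hx⟩ x.2 ⟨(y : G), (hmemS y).mp hy⟩ y.2
      (Subtype.ext (congrArg (fun z : A => (z : G)) hxx)) (Subtype.ext (congrArg (fun z : A => (z : G)) hyy))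
      (fun h => hx1 (Subtype.ext (congrArg (fun z : (P : Subgroup G) => (z : G)) h)))
      (fun h => hy1 (Subtype.ext (congrArg (fun z : (P : Subgroup G) => (z : G)) h)))
    exact Subtype.ext (congrArg (fun z : (P : Subgroup G) => (z : G)) h3)
  · exact (hfin (Or.inl ⟨m, hm, ⟨eST.symm.trans e⟩⟩)).elim
  · exact (hfin (Or.inr (Cfsg.Agent.TwoFusion.SylowTypeTransfer.isQuasiDihedral_of_mulEquiv eST h2))).elim

end Cfsg.Agent.H21.FourEnd
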