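import Cfsg.Agent.H509.TwoFrame
import Cfsg.Agent.QTNorm.SporBase

/-!
# Outer rows from a model (`p = 2`)

`false_of_model` : `K ≤ P` a model of `L` with a self-normalising Sylow 2-subgroup `T`, `c ∈ P` an involution inducing the
outer automorphism and normalising `T`; if each `t c`, `t ∈ T`, has a nontrivial commutator of odd order with an
element of `K`, then there is no bad element of even order outside `L`.
-/

set_option autoImplicit false

namespace Cfsg.Agent.H21.OutTwo

open Subgroup Cfsg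
open Cfsg.Agent.H472.ComRed (cm cm_eq cm_mem)
open Cfsg.Agent.H509.TwoFrame (Ctx exists_pow)
open Cfsg.Agent.QTNorm (SelfN)

universe u v

/-- a Sylow 2-subgroup of the normal subgroup `L` is normalised by a conjugate of a bad element -/
theorem exists_conj {G : Type u} [Group G] [Finite G] {L : Subgroup G} {x : G} (C : Ctx 2 L x) (h2 : 2 ∣ orderOf x)
    (hx : x ∉ L) (S : Sylow 2 L) :
    ∃ y : G, Ctx 2 L y ∧ y ∉ L ∧ ∀ s : L, s ∈ S → ∀ s' : L, (s' : G) = y * s * y⁻¹ → s' ∈ S := by
  have h2p : Fact (Nat.Prime 2) := ⟨Nat.prime_two⟩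
  have hL := C.normal
  obtain ⟨n, k, hk, hn⟩ := exists_pow h2
  obtain ⟨T, hT⟩ := (S.isPGroup'.map L.subtype).exists_le_sylow
  obtain ⟨g, hg⟩ := C.exists_conj hk hn T
  refine ⟨g * x * g⁻¹, C.conj g, ?_, ?_⟩
  · intro h
    apply hx
    have := hL.conj_mem _ h g⁻¹
    have e : g⁻¹ * (g * x * g⁻¹) * g⁻¹⁻¹ = x := by group
    rwa [e] at this
  · intro s hs s' hs'
    have h1 : (s' : G) ∈ (T : Subgroup G) := by
      rw [hs']
      exact (mem_normalizer_iff.1 hg s).1 (hT ⟨s, hs, rfl⟩)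
    have h3 : IsPGroup 2 ((T : Subgroup G).subgroupOf L) := T.isPGroup'.comap_of_injective _ L.subtype_injective
    have h4 : (S : Subgroup L) = (T : Subgroup G).subgroupOf L := by
      refine (S.is_maximal' h3 ?_).symm
      intro a ha
      exact hT ⟨a, ha, rfl⟩
    change s' ∈ (S : Subgroup L)
    rw [h4]
    exact h1

/-- **Outer rows from a model.** -/
theorem false_of_model {G : Type u} [Group G] [Finite G] {L : Subgroup G} {x : G} (C : Ctx 2 L x)
    (h2 : 2 ∣ orderOf x) (hx : x ∉ L) {P : Type v} [Group P] {K : Subgroup P} (e : L ≃* K)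
    {T : Subgroup P} (hTK : T ≤ K) (hT2 : IsPGroup 2 T) (hTi : ¬ 2 ∣ (T.subgroupOf K).index) (hself : SelfN K)
    {c : P} (hc : c * c = 1) (hcT : ∀ t ∈ T, c * t * c ∈ T)
    (haut : ∀ α : MulAut K, (∃ m ∈ K, ∀ k : K, (α k : P) = m * k * m⁻¹) ∨
      ∃ m ∈ K, ∀ k : K, (α k : P) = (m * c) * k * (m * c)⁻¹)
    (hfin : ∀ t ∈ T, ∃ k ∈ K, (t * c)⁻¹ * k⁻¹ * (t * c) * k ≠ 1 ∧
      ∃ n : ℕ, Odd n ∧ ((t * c)⁻¹ * k⁻¹ * (t * c) * k) ^ n = 1) : False := by
  have h2p : Fact (Nat.Prime 2) := ⟨Nat.prime_two⟩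
  have hL := C.normal
  have hfK : Finite K := Finite.of_equiv L e.toEquiv
  let SK : Sylow 2 K := (hT2.comap_of_injective K.subtype K.subtype_injective).toSylow hTi
  have hSK : ∀ k : K, k ∈ SK ↔ (k : P) ∈ T := fun k => Iff.rfl
  obtain ⟨S, hS⟩ : ∃ S : Sylow 2 L, ∀ l : L, l ∈ S ↔ (e l : P) ∈ T := by
    have hr : (SK : Subgroup K) ≤ e.toMonoidHom.range := by
      rw [MonoidHom.range_eq_top.2 e.surjective]; exact le_top
    exact ⟨SK.comapOfInjective e.toMonoidHom e.injective hr, fun l => Iff.rfl⟩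
  obtain ⟨y, Cy, hy, hyS⟩ := exists_conj C h2 hx S
  -- the automorphism induced by `y`
  let a : MulAut L := MulAut.conjNormal y
  have ha : ∀ l : L, ((a l : L) : G) = y * l * y⁻¹ := fun l => MulAut.conjNormal_apply y l
  let α : MulAut K := (e.symm.trans a).trans e
  have hα : ∀ l : L, α (e l) = e (a l) := by
    intro l
    change e (a (e.symm (e l))) = _
    rw [e.symm_apply_apply]
  rcases haut α with ⟨m, hm, hmk⟩ | ⟨m, hm, hmk⟩
  · -- inner
    apply hy
    obtain ⟨l, hl⟩ := e.surjective ⟨m, hm⟩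
    have h1 : (l : G)⁻¹ * y ∈ centralizer (L : Set G) := by
      rw [mem_centralizer_iff]
      intro b hb
      have h3 := hmk (e ⟨b, hb⟩)
      have h4 : a ⟨b, hb⟩ = l * ⟨b, hb⟩ * l⁻¹ := by
        apply e.injective
        rw [map_mul, map_mul, map_inv, ← hα]
        apply Subtype.ext
        rw [h3, hl]
        rfl
      have h5 := congrArg (fun t : L => (t : G)) h4
      have h6 : y * b * y⁻¹ = l * b * (l : G)⁻¹ := by
        have h7 := ha ⟨b, hb⟩
        rw [← h7]
        exact h5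
      calc b * ((l : G)⁻¹ * y) = (l : G)⁻¹ * (l * b * (l : G)⁻¹) * y := by group
        _ = (l : G)⁻¹ * (y * b * y⁻¹) * y := by rw [h6]
        _ = (l : G)⁻¹ * y * b := by group
    rw [C.cent, mem_bot] at h1
    have h3 : y = l := by
      calc y = l * ((l : G)⁻¹ * y) := by group
        _ = l := by rw [h1, mul_one]
    rw [h3]
    exact l.2
  · -- outer
    have hcinv : c⁻¹ = c := inv_eq_of_mul_eq_one_left hc
    have hm1 : m ∈ T := by
      have h3 : (⟨m, hm⟩ : K) ∈ normalizer ((SK : Subgroup K) : Set K) := by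
        apply mem_normalizer_fintype
        intro k hk
        have hk' : (k : P) ∈ T := hk
        change (m * (k : P) * m⁻¹ : P) ∈ T
        -- `k = c k' c`
        have hk2 : c * k * c ∈ T := hcT _ hk'
        obtain ⟨l, hl⟩ := e.surjective ⟨c * k * c, hTK hk2⟩
        have hlS : l ∈ S := by
          rw [hS, hl]
          exact hk2
        have h4 := (hS (a l)).1 (hyS l hlS (a l) (ha l))
        rw [← hα, hmk, hl, mul_inv_rev, hcinv] at h4
        have e1 : m * c * (c * (k : P) * c) * (c * m⁻¹) = m * (c * c) * (k : P) * (c * c) * m⁻¹ := by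
          simp only [mul_assoc]
        change m * c * (c * (k : P) * c) * (c * m⁻¹) ∈ T at h4
        rw [e1, hc, mul_one, mul_one] at h4
        exact h4
      exact hself SK h3
    obtain ⟨k, hk, hz1, n, hn, hzn⟩ := hfin m hm1
    obtain ⟨l, hl⟩ := e.surjective ⟨k, hk⟩
    -- the commutator
    have hcmL : cm y (l : G) ∈ L := by
      rw [cm_eq]
      refine mul_mem (inv_mem ?_) l.2
      have := hL.conj_mem _ l.2 y⁻¹
      rwa [inv_inv] at this
    have hw : y⁻¹ * (l : G)⁻¹ * y ∈ L := by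
      have := hL.conj_mem _ (inv_mem l.2) y⁻¹
      rwa [inv_inv] at this
    have hew : (e ⟨_, hw⟩ : P) = (m * c)⁻¹ * k⁻¹ * (m * c) := by
      have h3 : a ⟨_, hw⟩ = l⁻¹ := by
        apply Subtype.ext
        rw [ha]
        change y * (y⁻¹ * (l : G)⁻¹ * y) * y⁻¹ = (l : G)⁻¹
        group
      have h4 := hmk (e ⟨_, hw⟩)
      rw [hα, h3, map_inv, hl] at h4
      have h5 : (k : P)⁻¹ = (m * c) * (e ⟨_, hw⟩ : P) * (m * c)⁻¹ := h4
      rw [h5]
      group
    have hez : (e ⟨_, hcmL⟩ : P) = (m * c)⁻¹ * k⁻¹ * (m * c) * k := by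
      have h3 : (⟨_, hcmL⟩ : L) = ⟨_, hw⟩ * l := by
        apply Subtype.ext
        change cm y (l : G) = y⁻¹ * (l : G)⁻¹ * y * l
        unfold cm
        rfl
      rw [h3, map_mul, Subgroup.coe_mul, hew, hl]
    rcases Cy.bad l with h3 | h3
    · apply hz1
      rw [← hez]
      have h4 : (⟨_, hcmL⟩ : L) = 1 := Subtype.ext h3
      rw [h4, map_one]
      rfl
    · have h4 : cm y (l : G) ^ n = 1 := by
        have h5 : (⟨_, hcmL⟩ : L) ^ n = 1 := by
          apply e.injective
          rw [map_pow, map_one]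
          apply Subtype.ext
          rw [Subgroup.coe_pow, hez, hzn]
          rfl
        exact congrArg (fun t : L => (t : G)) h5
      have h5 := h3.trans (orderOf_dvd_of_pow_eq_one h4)
      rw [Nat.odd_iff] at hn
      omega

end Cfsg.Agent.H21.OutTwo
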