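import Cfsg.Agent.H180.KMathieu
import Cfsg.Agent.H21.OutTwo

/-!
# Outer rows from tables of permutations of the 24 points
-/

set_option autoImplicit false

namespace Cfsg.Agent.H21.OutTab

open Subgroup Cfsg
open Cfsg.Agent.SporadicA.GolayBase Cfsg.Agent.J4Type.CocodeMask Cfsg.Agent.H180.KMathieu
open Cfsg.Agent.SporadicA.GolayPerm hiding pcomp papp_pcomp
open scoped Pointwise

/-- table of `q⁻¹ k⁻¹ q k` (`q⁸ = 1`) -/
def commT (Q k ki : ℕ) : ℕ := pcomp (pcomp (pcomp (tpow Q 7) ki) Q) k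

/-- nontrivial of order 3, 5, 7 or 11 -/
def oddT (z : ℕ) : Bool := !pid z && (pid (tpow z 3) || pid (tpow z 5) || pid (tpow z 7) || pid (tpow z 11))

/-- the test for the outer element with table `Q` -/
def test (ks : List (ℕ × ℕ)) (Q : ℕ) : Bool := pid (tpow Q 8) && ks.any fun k => oddT (commT Q k.1 k.2)

theorem of_oddT {g : M24} {z : ℕ} (hg : IsTab g z) (h : oddT z = true) :
    g ≠ 1 ∧ ∃ n : ℕ, Odd n ∧ g ^ n = 1 := by
  unfold oddT at h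
  rw [Bool.and_eq_true, Bool.not_eq_true'] at h
  obtain ⟨h1, h2⟩ := h
  refine ⟨fun h3 => ?_, ?_⟩
  · rw [(isTab_eq_one_iff hg).1 h3] at h1
    exact absurd h1 (by decide)
  · simp only [Bool.or_eq_true] at h2
    rcases h2 with ((h2 | h2) | h2) | h2
    · exact ⟨3, by decide, (isTab_eq_one_iff (isTab_pow hg 3)).2 h2⟩
    · exact ⟨5, by decide, (isTab_eq_one_iff (isTab_pow hg 5)).2 h2⟩
    · exact ⟨7, by decide, (isTab_eq_one_iff (isTab_pow hg 7)).2 h2⟩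
    · exact ⟨11, by decide, (isTab_eq_one_iff (isTab_pow hg 11)).2 h2⟩

theorem of_test {K : Subgroup (Equiv.Perm GolayPt)} {ks : List (ℕ × ℕ)}
    (hks : ∀ k ∈ ks, ∃ g h : M24, IsTab g k.1 ∧ IsTab h k.2 ∧ g * h = 1 ∧ (g : Equiv.Perm GolayPt) ∈ K)
    {q : M24} {Q : ℕ} (hq : IsTab q Q) (h : test ks Q = true) :
    ∃ k ∈ K, (q : Equiv.Perm GolayPt)⁻¹ * k⁻¹ * (q : Equiv.Perm GolayPt) * k ≠ 1 ∧
      ∃ n : ℕ, Odd n ∧ ((q : Equiv.Perm GolayPt)⁻¹ * k⁻¹ * (q : Equiv.Perm GolayPt) * k) ^ n = 1 := by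
  unfold test at h
  rw [Bool.and_eq_true, List.any_eq_true] at h
  obtain ⟨h8, k, hk, h2⟩ := h
  obtain ⟨g, g', hg, hg', hgg, hgK⟩ := hks k hk
  refine ⟨g, hgK, ?_⟩
  have h9 : q ^ 8 = 1 := (isTab_eq_one_iff (isTab_pow hq 8)).2 h8
  have h10 : q⁻¹ = q ^ 7 := by
    rw [inv_eq_iff_mul_eq_one, ← pow_succ']
    exact h9
  have h11 : g⁻¹ = g' := inv_eq_of_mul_eq_one_right hgg
  have h12 : IsTab (q⁻¹ * g⁻¹ * q * g) (commT Q k.1 k.2) := by
    rw [h10, h11]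
    exact (((isTab_pow hq 7).mul hg').mul hq).mul hg
  obtain ⟨h13, n, hn, hn1⟩ := of_oddT h12 h2
  refine ⟨fun h14 => h13 (Subtype.ext h14), n, hn, ?_⟩
  exact congrArg Subtype.val hn1

/-- validity of the list of pairs -/
def valid (ks : List (ℕ × ℕ)) : Bool := ks.all fun k =>
  (isPerm k.1 && isAut k.1) && ((isPerm k.2 && isAut k.2) && pid (pcomp k.1 k.2))

theorem of_valid {ks : List (ℕ × ℕ)} (h : valid ks = true) {k : ℕ × ℕ} (hk : k ∈ ks) :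
    ∃ (h1 : (isPerm k.1 && isAut k.1) = true) (h2 : (isPerm k.2 && isAut k.2) = true),
      mk k.1 h1 * mk k.2 h2 = 1 := by
  unfold valid at h
  rw [List.all_eq_true] at h
  have h1 := h k hk
  rw [Bool.and_eq_true, Bool.and_eq_true (isPerm k.2 && isAut k.2)] at h1
  obtain ⟨h1, h2, h3⟩ := h1
  exact ⟨h1, h2, (isTab_eq_one_iff ((isTab_mk _ h1).mul (isTab_mk _ h2))).2 h3⟩

end Cfsg.Agent.H21.OutTab
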