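import Cfsg.Agent.H190.Exc.Sec
import Cfsg.Agent.S1154

/-!
# An elementary abelian subgroup of order `q²` of `²G₂(q)`
-/

set_option autoImplicit false

namespace Cfsg.Agent.H21.RankRee

open Cfsg.Lie Cfsg.Agent.H190.Exc
open Cfsg.Agent.LieRecognition.ReeCube Cfsg.Agent.LieRecognition.G2Elem

universe u

theorem gMat_zero_comm {K : Type*} [Field K] [CharP K 3] (p s u v p' s' u' v' : K) :
    gMat 0 0 p s u v * gMat 0 0 p' s' u' v' = gMat 0 0 p' s' u' v' * gMat 0 0 p s u v := by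
  have h : ∀ p s u v : K, gMat 0 0 p s u v =
      chevG2.x K 8 p * (chevG2.x K 9 s * (chevG2.x K 10 u * chevG2.x K 11 v)) := by
    intro p s u v
    rw [gMat, x7_zero, x6_zero, one_mul, one_mul]
  have c8 : ∀ a b : K, Commute (chevG2.x K 8 a) (chevG2.x K 8 b) := fun a b => by
    show _ * _ = _ * _
    rw [x8_add, x8_add, add_comm]
  have c9 : ∀ a b : K, Commute (chevG2.x K 9 a) (chevG2.x K 9 b) := fun a b => by
    show _ * _ = _ * _
    rw [x9_add, x9_add, add_comm]
  have c10 : ∀ a b : K, Commute (chevG2.x K 10 a) (chevG2.x K 10 b) := fun a b => by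
    show _ * _ = _ * _
    rw [x10_add, x10_add, add_comm]
  have c11 : ∀ a b : K, Commute (chevG2.x K 11 a) (chevG2.x K 11 b) := fun a b => by
    show _ * _ = _ * _
    rw [x11_add, x11_add, add_comm]
  rw [h, h]
  have hh : ∀ (X : Matrix chevG2.Idx chevG2.Idx K), Commute X (chevG2.x K 8 p') → Commute X (chevG2.x K 9 s') →
      Commute X (chevG2.x K 10 u') → Commute X (chevG2.x K 11 v') →
      Commute X (chevG2.x K 8 p' * (chevG2.x K 9 s' * (chevG2.x K 10 u' * chevG2.x K 11 v'))) :=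
    fun X h1 h2 h3 h4 => h1.mul_right (h2.mul_right (h3.mul_right h4))
  refine Commute.mul_left (hh _ (c8 _ _) (comm_8_9 _ _) (comm_8_10 _ _) (comm_8_11 _ _))
    (Commute.mul_left (hh _ (comm_8_9 _ _).symm (c9 _ _) (comm_9_10 _ _) (comm_9_11 _ _))
      (Commute.mul_left (hh _ (comm_8_10 _ _).symm (comm_9_10 _ _).symm (c10 _ _) (comm_10_11 _ _))
        (hh _ (comm_8_11 _ _).symm (comm_9_11 _ _).symm (comm_10_11 _ _).symm (c11 _ _))))

/-- **The rank of `²G₂(q)`.** -/
theorem ree_rank {K : Type u} [Field K] [Fintype K] {m : ℕ} (hm : 1 ≤ m) (hK : Fintype.card K = 3 ^ (2 * m + 1))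
    {k : ℕ} (h : SecRank ↥(twistedG2 K (3 ^ m)) 3 k) : 2 * (2 * m + 1) ≤ k := by
  classical
  have hp : Fact (Nat.Prime 3) := ⟨Nat.prime_three⟩
  haveI : CharP K 3 := charP_of_card_eq_prime_pow hK
  obtain ⟨hmem, -⟩ := Cfsg.Agent.S1101.result (K := K) (m := m) hK
  have hcount := Cfsg.Agent.S1154.result (K := K) hm hK
  set U := chevG2.posUnipotent K ⊓ twistedG2 K (3 ^ m) with hU
  have he0 : 3 ^ m ≠ 0 := by positivity
  -- the shape of the elements of order dividing three
  have hshape : ∀ x ∈ U, x ^ 3 = 1 → ∃ p s u v : K, (x : Matrix chevG2.Idx chevG2.Idx K) = gMat 0 0 p s u v := by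
    intro x hx h3
    obtain ⟨t, u, v, ht⟩ := (hmem x).1 hx
    rw [wordMat_reeWordU] at ht
    have h4 : (x : Matrix chevG2.Idx chevG2.Idx K) ^ 3 = 1 := by
      have := congrArg (fun g : GL chevG2.Idx K => (g : Matrix chevG2.Idx chevG2.Idx K)) h3
      simpa using this
    rw [ht] at h4
    have h5 := gMat_cube_ne _ _ _ _ _ _ h4
    have h6 : t = 0 := by
      rcases mul_eq_zero.1 h5 with h7 | h7
      · exact (pow_eq_zero_iff he0).1 ((pow_eq_zero_iff two_ne_zero).1 h7)
      · exact h7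
    subst h6
    rw [zero_pow he0] at ht
    exact ⟨_, _, _, _, ht⟩
  have hcomm : ∀ x ∈ U, x ^ 3 = 1 → ∀ y ∈ U, y ^ 3 = 1 → x * y = y * x := by
    intro x hx hx3 y hy hy3
    obtain ⟨p, s, u, v, e1⟩ := hshape x hx hx3
    obtain ⟨p', s', u', v', e2⟩ := hshape y hy hy3
    apply Units.ext
    rw [Units.val_mul, Units.val_mul, e1, e2]
    exact gMat_zero_comm _ _ _ _ _ _ _ _
  let E : Subgroup ↥(twistedG2 K (3 ^ m)) :=
    { carrier := {x | (x : GL chevG2.Idx K) ∈ U ∧ (x : GL chevG2.Idx K) ^ 3 = 1}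
      one_mem' := ⟨one_mem _, one_pow _⟩
      mul_mem' := by
        rintro x y ⟨hx, hx3⟩ ⟨hy, hy3⟩
        refine ⟨mul_mem hx hy, ?_⟩
        have h1 : Commute (x : GL chevG2.Idx K) (y : GL chevG2.Idx K) := hcomm _ hx hx3 _ hy hy3
        rw [Subgroup.coe_mul, h1.mul_pow, hx3, hy3, one_mul]
      inv_mem' := by
        rintro x ⟨hx, hx3⟩
        exact ⟨inv_mem hx, by rw [Subgroup.coe_inv, inv_pow, hx3, inv_one]⟩ }
  have h1 : Nat.card ↥E ≤ 3 ^ k := by
    refine h.le_of_sub E ?_ ?_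
    · rintro x ⟨hx, hx3⟩ y ⟨hy, hy3⟩
      exact Subtype.ext (hcomm _ hx hx3 _ hy hy3)
    · rintro x ⟨hx, hx3⟩
      exact Subtype.ext hx3
  -- the count
  let f : Option {u : ↥U // orderOf u = 3} → ↥E := fun o => match o with
    | none => ⟨1, one_mem _⟩
    | some u => ⟨⟨(u.1 : GL chevG2.Idx K), u.1.2.2⟩, ⟨u.1.2, by
        have h2 : (u.1 : ↥U) ^ 3 = 1 := orderOf_dvd_iff_pow_eq_one.1 (dvd_of_eq u.2)
        exact congrArg Subtype.val h2⟩⟩
  have hf : Function.Injective f := by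
    intro a b hab
    have hab' : ((f a : ↥(twistedG2 K (3 ^ m))) : GL chevG2.Idx K) = ((f b : ↥(twistedG2 K (3 ^ m))) : GL chevG2.Idx K) := by
      rw [hab]
    cases a with
    | none =>
      cases b with
      | none => rfl
      | some b =>
        exfalso
        have h2 : (b.1 : ↥U) = 1 := Subtype.ext hab'.symm
        have h3 := b.2
        rw [h2, orderOf_one] at h3
        omega
    | some a =>
      cases b with
      | none =>
        exfalso
        have h2 : (a.1 : ↥U) = 1 := Subtype.ext hab'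
        have h3 := a.2
        rw [h2, orderOf_one] at h3
        omega
      | some b => exact congrArg some (Subtype.ext (Subtype.ext hab'))
  have hfin : Finite ↥(twistedG2 K (3 ^ m)) := inferInstance
  have hfin2 : Finite {u : ↥U // orderOf u = 3} := inferInstance
  have h2 : Nat.card (Option {u : ↥U // orderOf u = 3}) ≤ Nat.card ↥E := Nat.card_le_card_of_injective f hf
  rw [Finite.card_option, hcount] at h2
  have h3 : (3 ^ (2 * m + 1)) ^ 2 ≤ 3 ^ k := by
    have : 1 ≤ (3 ^ (2 * m + 1)) ^ 2 := Nat.one_le_pow _ _ (by positivity)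
    omega
  rw [← pow_mul] at h3
  have h4 := (Nat.pow_le_pow_iff_right (by norm_num : 1 < 3)).1 h3
  omega

end Cfsg.Agent.H21.RankRee
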