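import Cfsg.Agent.OddCyclic.ClaimC.SzIso
import Cfsg.Agent.LieExceptional.SuzukiSylow

/-!
# Abelian 2-subgroups of the Suzuki groups
-/

set_option autoImplicit false

namespace Cfsg.Agent.H21.SzAbel

open Cfsg Cfsg.Agent.LieExceptional Cfsg.Agent.LieExceptional.SuzukiSylow

universe u

variable {F : Type*} [Field F] [Fintype F] {m : ℕ}

/-- the fixed points of `x ↦ x^(2^(m+1))` -/
theorem fix_pow (hF : Fintype.card F = 2 ^ (2 * m + 1)) {x : F} (hx : x ^ 2 ^ (m + 1) = x) (h0 : x ≠ 0) : x = 1 := by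
  have h1 : x ^ (2 ^ (m + 1) * 2 ^ (m + 1)) = x := by rw [pow_mul, hx, hx]
  have h2 : 2 ^ (m + 1) * 2 ^ (m + 1) = 2 ^ (2 * m + 1) * 2 := by
    rw [← pow_add, ← pow_succ]
    congr 1
    ring
  have h3 : x ^ 2 ^ (2 * m + 1) = x := by rw [← hF]; exact FiniteField.pow_card x
  rw [h2, pow_mul, h3, pow_two] at h1
  exact mul_left_cancel₀ h0 (by rw [h1, mul_one])

/-- commuting elements of `Q` -/
theorem comm_iff (hF : Fintype.card F = 2 ^ (2 * m + 1)) {a b c d : F} (ha : a ≠ 0)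
    (h : u hF a b * u hF c d = u hF c d * u hF a b) : c = 0 ∨ c = a := by
  rw [u_mul, u_mul, u_eq_iff] at h
  have h1 : a ^ 2 ^ (m + 1) * c = c ^ 2 ^ (m + 1) * a := by
    have h2 := h.2
    rw [add_comm d b] at h2
    exact add_left_cancel h2
  by_cases hc : c = 0
  · exact Or.inl hc
  right
  have h3 : (c / a) ^ 2 ^ (m + 1) = c / a := by
    rw [div_pow, div_eq_div_iff (pow_ne_zero _ ha) ha, ← h1]
    ring
  have h4 := fix_pow hF h3 (div_ne_zero hc ha)
  rwa [div_eq_one_iff_eq ha] at h4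

theorem card_le_of_le_Q (hF : Fintype.card F = 2 ^ (2 * m + 1)) (P : Subgroup (Cfsg.Sz F m)) (hPQ : P ≤ Q hF)
    (hc : ∀ a ∈ P, ∀ b ∈ P, a * b = b * a) : Nat.card ↥P ≤ 2 * Fintype.card F := by
  classical
  have hchoose : ∀ x : ↥P, ∃ y : F × F, (x : Cfsg.Sz F m) = u hF y.1 y.2 := by
    intro x
    obtain ⟨a, b, h⟩ := hPQ x.2
    exact ⟨(a, b), h⟩
  choose f hf using hchoose
  have hfi : Function.Injective f := by
    intro x y hxy
    apply Subtype.ext
    rw [hf x, hf y, hxy]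
  -- the possible first coordinates
  have hS : ∃ a : F, ∀ x : ↥P, (f x).1 = 0 ∨ (f x).1 = a := by
    by_cases h : ∃ x : ↥P, (f x).1 ≠ 0
    · obtain ⟨x, hx⟩ := h
      refine ⟨(f x).1, fun y => ?_⟩
      refine comm_iff (b := (f x).2) (d := (f y).2) hF hx ?_
      rw [← hf x, ← hf y]
      exact hc _ x.2 _ y.2
    · push Not at h
      exact ⟨0, fun x => Or.inl (h x)⟩
  obtain ⟨a, ha⟩ := hS
  let g : ↥P → Bool × F := fun x => (decide ((f x).1 = 0), (f x).2)
  have hg : Function.Injective g := by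
    intro x y hxy
    apply hfi
    have h1 : decide ((f x).1 = 0) = decide ((f y).1 = 0) := congrArg (fun t : Bool × F => t.1) hxy
    have h2 : (f x).2 = (f y).2 := congrArg (fun t : Bool × F => t.2) hxy
    refine Prod.ext ?_ h2
    rw [decide_eq_decide] at h1
    by_cases h3 : (f x).1 = 0
    · rw [h3, h1.1 h3]
    · have h4 : (f y).1 ≠ 0 := fun h5 => h3 (h1.2 h5)
      rw [(ha x).resolve_left h3, (ha y).resolve_left h4]
  have h1 := Nat.card_le_card_of_injective g hg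
  rw [Nat.card_prod] at h1
  have h2 : Nat.card Bool = 2 := by rw [Nat.card_eq_fintype_card, Fintype.card_bool]
  have h3 : Nat.card F = Fintype.card F := Nat.card_eq_fintype_card
  rwa [h2, h3] at h1

/-- **Abelian 2-subgroups of `Sz(q)` have order at most `2q`.** -/
theorem sz_abel {F : Type u} [Field F] [Fintype F] {m : ℕ} (hm : 1 ≤ m) (hF : Fintype.card F = 2 ^ (2 * m + 1))
    (P : Subgroup ↥(Lie.Sz F (2 ^ (m + 1)))) (hP : IsPGroup 2 ↥P) (hc : ∀ a ∈ P, ∀ b ∈ P, a * b = b * a) :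
    Nat.card ↥P ≤ 2 * Fintype.card F := by
  have hp : Fact (Nat.Prime 2) := ⟨Nat.prime_two⟩
  obtain ⟨e⟩ := OddCyclic.ClaimC.SzIso.iso (F := F) hm hF
  set P' : Subgroup (Cfsg.Sz F m) := P.map e.symm.toMonoidHom with hP'
  have hcard : Nat.card ↥P = Nat.card ↥P' :=
    Nat.card_congr (P.equivMapOfInjective e.symm.toMonoidHom e.symm.injective).toEquiv
  have hP2 : IsPGroup 2 ↥P' := hP.map _
  obtain ⟨S, hS⟩ := hP2.exists_le_sylow
  have hfin : Finite (Cfsg.Sz F m) := inferInstance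
  obtain ⟨g, hg⟩ := MulAction.exists_smul_eq (Cfsg.Sz F m) S (sylowQ hm hF)
  set P'' : Subgroup (Cfsg.Sz F m) := P'.map (MulAut.conj g).toMonoidHom with hP''
  have hcard2 : Nat.card ↥P' = Nat.card ↥P'' :=
    Nat.card_congr (P'.equivMapOfInjective (MulAut.conj g).toMonoidHom (MulAut.conj g).injective).toEquiv
  rw [hcard, hcard2]
  refine card_le_of_le_Q hF P'' ?_ ?_
  · rintro _ ⟨x, hx, rfl⟩
    have h1 : g * x * g⁻¹ ∈ (g • S : Sylow 2 (Cfsg.Sz F m)) :=
      Subgroup.smul_mem_pointwise_smul x (MulAut.conj g) _ (hS hx)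
    rw [hg] at h1
    exact h1
  · rintro _ ⟨_, ⟨x, hx, rfl⟩, rfl⟩ _ ⟨_, ⟨y, hy, rfl⟩, rfl⟩
    rw [← map_mul, ← map_mul, ← map_mul, ← map_mul, hc x hx y hy]

end Cfsg.Agent.H21.SzAbel
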